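import Mathlib

set_option autoImplicit false

/-!
# Common isotropic vectors of Hermitian forms over `F_{q²}` (Chevalley-Warning)

Fewer than `n` Hermitian forms in `n` variables over a field with `q²` elements have a common non-zero isotropic vector.
-/

namespace Cfsg.Agent.H307.HermCW

open MvPolynomial Finset

variable {F : Type*} [Field F] [Fintype F] {ι : Type*} [Fintype ι]

/-- the value of the form with matrix `M` -/
def qf (q : ℕ) (M : ι → ι → F) (v : ι → F) : F := ∑ i, ∑ j, M i j * v i * v j ^ q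

/-- the form with matrix `M` as a polynomial -/
noncomputable def Q (q : ℕ) (M : ι → ι → F) : MvPolynomial ι F := ∑ i, ∑ j, C (M i j) * X i * X j ^ q

theorem eval_Q (q : ℕ) (M : ι → ι → F) (v : ι → F) : eval v (Q q M) = qf q M v := by
  simp [Q, qf]

theorem totalDegree_Q (q : ℕ) (M : ι → ι → F) : (Q q M).totalDegree ≤ q + 1 := by
  refine totalDegree_finsetSum_le fun i _ => totalDegree_finsetSum_le fun j _ => ?_
  refine (totalDegree_mul _ _).trans ?_
  have h1 : (C (M i j) * X i : MvPolynomial ι F).totalDegree ≤ 1 := by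
    refine (totalDegree_mul _ _).trans ?_
    rw [totalDegree_C, totalDegree_X, zero_add]
  have h2 : (X j ^ q : MvPolynomial ι F).totalDegree ≤ q := by
    refine (totalDegree_pow _ _).trans ?_
    rw [totalDegree_X, mul_one]
  omega

theorem exists_char {q : ℕ} (hF : Fintype.card F = q ^ 2) : ∃ p k : ℕ, p.Prime ∧ CharP F p ∧ q = p ^ k := by
  obtain ⟨p, hp, n, hpp, hn⟩ := FiniteField.card' F
  have h1 : q ∣ p ^ (n : ℕ) := by
    rw [← hn, hF, pow_two]
    exact dvd_mul_right _ _
  obtain ⟨k, -, hk⟩ := (Nat.dvd_prime_pow hpp).1 h1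
  exact ⟨p, k, hpp, hp, hk⟩

theorem add_pow_q {q : ℕ} (hF : Fintype.card F = q ^ 2) (a b : F) : (a + b) ^ q = a ^ q + b ^ q := by
  obtain ⟨p, k, hp, hc, rfl⟩ := exists_char hF
  have : Fact p.Prime := ⟨hp⟩
  exact add_pow_char_pow a b p k

theorem sum_pow_q {q : ℕ} (hF : Fintype.card F = q ^ 2) {κ : Type*} (s : Finset κ) (f : κ → F) :
    (∑ i ∈ s, f i) ^ q = ∑ i ∈ s, f i ^ q := by
  obtain ⟨p, k, hp, hc, rfl⟩ := exists_char hF
  have : Fact p.Prime := ⟨hp⟩
  exact sum_pow_char_pow _ _ _ _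

theorem pow_q_q {q : ℕ} (hF : Fintype.card F = q ^ 2) (a : F) : (a ^ q) ^ q = a := by
  rw [← pow_mul, ← pow_two, ← hF, FiniteField.pow_card]

theorem qf_pow {q : ℕ} (hF : Fintype.card F = q ^ 2) {M : ι → ι → F} (hM : ∀ i j, M i j ^ q = M j i) (v : ι → F) :
    qf q M v ^ q = qf q M v := by
  unfold qf
  rw [sum_pow_q hF, Finset.sum_comm]
  refine Finset.sum_congr rfl fun i _ => ?_
  rw [sum_pow_q hF]
  refine Finset.sum_congr rfl fun j _ => ?_
  rw [mul_pow, mul_pow, hM, pow_q_q hF]
  ring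

theorem one_lt {q : ℕ} (hF : Fintype.card F = q ^ 2) : 1 < q := by
  have h1 : 1 < Fintype.card F := Fintype.one_lt_card
  rw [hF] at h1
  by_contra h
  have : q ≤ 1 := by omega
  have := Nat.pow_le_pow_left this 2
  omega

theorem one_sub_of_ne {q : ℕ} (hq : 1 < q) {x : F} (hx : x ^ q = x) (h : x ≠ 0) : 1 - x ^ (q - 1) = 0 := by
  have h1 : x ^ (q - 1) * x = x := by
    rw [← pow_succ, Nat.sub_add_cancel hq.le, hx]
  have h2 : x ^ (q - 1) = 1 := mul_right_cancel₀ h (by rw [h1, one_mul])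
  rw [h2, sub_self]

theorem exists_common {q : ℕ} (hF : Fintype.card F = q ^ 2) {κ : Type*} [Fintype κ] (M : κ → ι → ι → F)
    (hM : ∀ k i j, M k i j ^ q = M k j i) (hk : Fintype.card κ < Fintype.card ι) :
    ∃ v : ι → F, v ≠ 0 ∧ ∀ k, qf q (M k) v = 0 := by
  classical
  by_contra hcon
  push Not at hcon
  have hq := one_lt hF
  let f : MvPolynomial ι F := ∏ k, (1 - Q q (M k) ^ (q - 1))
  have hdeg : f.totalDegree ≤ Fintype.card κ * ((q - 1) * (q + 1)) := by
    refine (totalDegree_finsetProd _ _).trans ?_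
    refine (Finset.sum_le_card_nsmul _ _ ((q - 1) * (q + 1)) fun k _ => ?_).trans ?_
    · refine (totalDegree_sub _ _).trans ?_
      rw [totalDegree_one, Nat.zero_max]
      refine (totalDegree_pow _ _).trans ?_
      exact Nat.mul_le_mul_left _ (totalDegree_Q q (M k))
    · rw [smul_eq_mul, Finset.card_univ]
  have hdeg2 : f.totalDegree < (Fintype.card F - 1) * Fintype.card ι := by
    refine hdeg.trans_lt ?_
    have h1 : Fintype.card F - 1 = (q - 1) * (q + 1) := by
      obtain ⟨r, rfl⟩ : ∃ r, q = r + 1 := ⟨q - 1, by omega⟩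
      rw [hF, show (r + 1) ^ 2 = r * (r + 1 + 1) + 1 by ring]
      simp
    rw [h1, mul_comm]
    exact Nat.mul_lt_mul_of_pos_left hk (Nat.mul_pos (by omega) (by omega))
  have h0 := sum_eval_eq_zero f hdeg2
  have h1 : ∀ v : ι → F, eval v f = if v = 0 then 1 else 0 := by
    intro v
    have h2 : eval v f = ∏ k, (1 - qf q (M k) v ^ (q - 1)) := by
      rw [map_prod]
      refine Finset.prod_congr rfl fun k _ => ?_
      rw [map_sub, map_one, map_pow, eval_Q]
    rw [h2]
    split_ifs with hv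
    · refine Finset.prod_eq_one fun k _ => ?_
      have h3 : qf q (M k) v = 0 := by
        rw [hv]
        simp [qf]
      rw [h3, zero_pow (by omega), sub_zero]
    · obtain ⟨k, hk⟩ := hcon v hv
      exact Finset.prod_eq_zero (Finset.mem_univ k) (one_sub_of_ne hq (qf_pow hF (hM k) v) hk)
  rw [Finset.sum_congr rfl fun v _ => h1 v, Finset.sum_ite_eq' Finset.univ (0 : ι → F) (fun _ => (1 : F)),
    if_pos (Finset.mem_univ _)] at h0
  exact one_ne_zero h0

end Cfsg.Agent.H307.HermCW
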