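import Cfsg.Agent.H307.Heads
import Cfsg.Agent.H178.CType.Main
import Cfsg.Agent.H504.SzFive
import Cfsg.Agent.H805.ASeven
import Cfsg.Agent.H805.LThreeFour
import Cfsg.Agent.TwoFusion.SLTwoFacts
import Cfsg.Agent.S0252
import Cfsg.Agent.S0253

set_option autoImplicit false

/-! # Simple groups of conjugate rank 3, 4, 5 -/

namespace Cfsg.Agent.H307.Assemble

open Subgroup Cfsg Cfsg.Agent.H307.Heads Cfsg.Agent.H178.CType

universe u

/-- the class sizes of `PSL₂(2^m)` -/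
def PslEven : Prop := ∀ (F : Type) [Field F] [Fintype F] (m : ℕ), 2 ≤ m → Fintype.card F = 2 ^ m →
  Set.ncard (idx (Matrix.ProjectiveSpecialLinearGroup (Fin 2) F)) = 3

/-- the class sizes of `PSL₂(q)`, `q` odd -/
def PslOdd : Prop := ∀ (F : Type) [Field F] [Fintype F], Odd (Fintype.card F) → 7 ≤ Fintype.card F →
  Set.ncard (idx (Matrix.ProjectiveSpecialLinearGroup (Fin 2) F)) = 4

/-- `q` is a power of two, odd and at least 7, or 5 -/
theorem cases_card {F : Type} [Field F] [Fintype F] (h : 3 < Fintype.card F) :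
    (∃ m, 2 ≤ m ∧ Fintype.card F = 2 ^ m) ∨ (Odd (Fintype.card F) ∧ 7 ≤ Fintype.card F) ∨
      Fintype.card F = 5 := by
  obtain ⟨p, -, n, hp, hn⟩ := FiniteField.card' F
  rcases hp.eq_two_or_odd' with rfl | ho
  · left
    refine ⟨n, ?_, hn⟩
    by_contra hlt
    have : (n : ℕ) = 1 := by have := n.pos; omega
    rw [hn, this] at h
    norm_num at h
  · have ho2 : Odd (Fintype.card F) := by rw [hn]; exact ho.pow
    rcases Nat.lt_or_ge (Fintype.card F) 7 with h7 | h7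
    · right; right
      obtain ⟨k, hk⟩ := ho2
      omega
    · exact Or.inr (Or.inl ⟨ho2, h7⟩)

theorem exists_four {G : Type u} [Group G] {F : Type} [Field F] [Fintype F] (h : Fintype.card F = 5)
    (e : G ≃* Matrix.ProjectiveSpecialLinearGroup (Fin 2) F) :
    ∃ (K : Type) (_ : Field K) (_ : Fintype K), Fintype.card K = 2 ^ 2 ∧
      Nonempty (G ≃* Matrix.ProjectiveSpecialLinearGroup (Fin 2) K) := by
  haveI : Fact (Nat.Prime 2) := ⟨Nat.prime_two⟩
  letI : Fintype (GaloisField 2 2) := Fintype.ofFinite _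
  have hc : Fintype.card (GaloisField 2 2) = 4 := by
    rw [← Nat.card_eq_fintype_card, GaloisField.card 2 2 (by norm_num)]; norm_num
  obtain ⟨f⟩ := S0252.result (F := GaloisField 2 2) hc
  obtain ⟨f'⟩ := S0253.result (F := F) h
  exact ⟨GaloisField 2 2, inferInstance, inferInstance, by rw [hc]; norm_num, ⟨(e.trans f').trans f.symm⟩⟩

/-- the list with the numbers of class sizes -/
theorem concl_cases (h1 : PslEven) (h2 : PslOdd) {G : Type u} [Group G] (h : Concl G) :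
    (Set.ncard (idx G) = 3 ∧ ∃ (m : ℕ) (F : Type) (_ : Field F) (_ : Fintype F), 2 ≤ m ∧ Fintype.card F = 2 ^ m ∧
        Nonempty (G ≃* Matrix.ProjectiveSpecialLinearGroup (Fin 2) F)) ∨
    (Set.ncard (idx G) = 4 ∧ ∃ (F : Type) (_ : Field F) (_ : Fintype F), Odd (Fintype.card F) ∧ 7 ≤ Fintype.card F ∧
        Nonempty (G ≃* Matrix.ProjectiveSpecialLinearGroup (Fin 2) F)) ∨
    (5 ≤ Set.ncard (idx G) ∧ ((∃ (n : ℕ) (F : Type) (_ : Field F) (_ : Fintype F), 1 ≤ n ∧
        Fintype.card F = 2 ^ (2 * n + 1) ∧ Nonempty (G ≃* ↥(Cfsg.Lie.Sz F (2 ^ (n + 1))))) ∨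
      ∃ (F : Type) (_ : Field F) (_ : Fintype F), Fintype.card F = 4 ∧
        Nonempty (G ≃* Matrix.ProjectiveSpecialLinearGroup (Fin 3) F))) ∨
    6 ≤ Set.ncard (idx G) := by
  have even : ∀ (m : ℕ) (F : Type) [Field F] [Fintype F], 2 ≤ m → Fintype.card F = 2 ^ m →
        (G ≃* Matrix.ProjectiveSpecialLinearGroup (Fin 2) F) →
      (Set.ncard (idx G) = 3 ∧ ∃ (m : ℕ) (F : Type) (_ : Field F) (_ : Fintype F), 2 ≤ m ∧ Fintype.card F = 2 ^ m ∧
        Nonempty (G ≃* Matrix.ProjectiveSpecialLinearGroup (Fin 2) F)) := by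
    intro m F _ _ hm hF e
    exact ⟨by rw [idx_congr e]; exact h1 F m hm hF, m, F, inferInstance, inferInstance, hm, hF, ⟨e⟩⟩
  rcases h with ⟨F, i1, i2, hF, ⟨e⟩⟩ | ⟨F, i1, i2, n, hn, hF, ⟨e⟩⟩ | he | ⟨F, i1, i2, hF, ⟨e⟩⟩
  · rcases cases_card hF with ⟨m, hm, hF'⟩ | ⟨ho, h7⟩ | h5
    · exact Or.inl (even m F hm hF' e)
    · exact Or.inr (Or.inl ⟨by rw [idx_congr e]; exact h2 F ho h7, F, i1, i2, ho, h7, ⟨e⟩⟩)
    · obtain ⟨K, j1, j2, hK, ⟨e'⟩⟩ := exists_four h5 e
      exact Or.inl (even 2 K le_rfl hK e')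
  · exact Or.inr (Or.inr (Or.inl ⟨by rw [idx_congr e]; exact H504.SzFive.sz_five hn hF,
      Or.inl ⟨n, F, i1, i2, hn, hF, ⟨e⟩⟩⟩))
  · obtain ⟨e⟩ := he
    exact Or.inr (Or.inr (Or.inr (by rw [idx_congr e]; exact H805.ASeven.a7_six)))
  · exact Or.inr (Or.inr (Or.inl ⟨by rw [idx_congr e]; exact H805.LThreeFour.l34_five hF,
      Or.inr ⟨F, i1, i2, hF, ⟨e⟩⟩⟩))

theorem noncomm_of_ncard {G : Type*} [Group G] (h : Set.ncard (idx G) ≠ 0) : ¬ IsMulCommutative G := by
  intro hc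
  apply h
  have : idx G = ∅ := by
    rw [Set.eq_empty_iff_forall_notMem]
    rintro m ⟨x, hx, -⟩
    apply hx
    rw [mem_center_iff]
    intro g
    exact hc.is_comm.comm g x
  rw [this, Set.ncard_empty]

theorem reverse {G : Type*} [Group G] {F : Type} [Field F] [Fintype F] (h3 : 3 < Fintype.card F)
    (e : G ≃* Matrix.ProjectiveSpecialLinearGroup (Fin 2) F) {k : ℕ} (hk : k ≠ 0)
    (h : Set.ncard (idx (Matrix.ProjectiveSpecialLinearGroup (Fin 2) F)) = k) :
    IsSimpleGroup G ∧ ¬ IsMulCommutative G ∧ Set.ncard (idx G) = k := by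
  have hs := TwoFusion.SLTwoFacts.isSimpleGroup_psl h3
  have hG : Set.ncard (idx G) = k := by rw [idx_congr e]; exact h
  refine ⟨?_, noncomm_of_ncard (by rw [hG]; exact hk), hG⟩
  haveI : Nontrivial G := e.toEquiv.nontrivial
  exact IsSimpleGroup.isSimpleGroup_of_surjective e.symm.toMonoidHom e.symm.surjective

theorem three_iff (h1 : PslEven) (h2 : PslOdd) (G : Type u) [Group G] [Finite G] :
    (IsSimpleGroup G ∧ ¬ IsMulCommutative G ∧ Set.ncard (idx G) = 3) ↔
      ∃ (m : ℕ) (F : Type) (_ : Field F) (_ : Fintype F), 2 ≤ m ∧ Fintype.card F = 2 ^ m ∧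
        Nonempty (G ≃* Matrix.ProjectiveSpecialLinearGroup (Fin 2) F) := by
  constructor
  · rintro ⟨hs, hna, h3⟩
    obtain ⟨m, hm⟩ := good_of_three hna h3
    have hc : Concl G := Good.concl hna (m := m) hm
    rcases concl_cases h1 h2 hc with h | h | h | h
    · exact h.2
    · omega
    · omega
    · omega
  · rintro ⟨m, F, i1, i2, hm, hF, ⟨e⟩⟩
    refine reverse ?_ e (by norm_num) (h1 F m hm hF)
    rw [hF]
    calc 3 < 2 ^ 2 := by norm_num
      _ ≤ 2 ^ m := Nat.pow_le_pow_right (by norm_num) hm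

theorem four_iff (h1 : PslEven) (h2 : PslOdd)
    (hcop : ∀ (G : Type u) [Group G] [Finite G] [IsSimpleGroup G] (_ : ¬ IsMulCommutative G) (x y : G), x ≠ 1 →
      y ≠ 1 → ¬ ((Subgroup.centralizer ({x} : Set G)).index).Coprime (Subgroup.centralizer ({y} : Set G)).index)
    (G : Type u) [Group G] [Finite G] :
    (IsSimpleGroup G ∧ ¬ IsMulCommutative G ∧ Set.ncard (idx G) = 4) ↔
      ∃ (F : Type) (_ : Field F) (_ : Fintype F), Odd (Fintype.card F) ∧ 7 ≤ Fintype.card F ∧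
        Nonempty (G ≃* Matrix.ProjectiveSpecialLinearGroup (Fin 2) F) := by
  constructor
  · rintro ⟨hs, hna, h3⟩
    obtain ⟨m, hm⟩ := good_of_four hna (hcop G hna) h3
    have hc : Concl G := Good.concl hna (m := m) hm
    rcases concl_cases h1 h2 hc with h | h | h | h
    · omega
    · exact h.2
    · omega
    · omega
  · rintro ⟨F, i1, i2, ho, h7, ⟨e⟩⟩
    exact reverse (by omega) e (by norm_num) (h2 F ho h7)

theorem five (h1 : PslEven) (h2 : PslOdd)
    (hcop : ∀ (G : Type u) [Group G] [Finite G] [IsSimpleGroup G] (_ : ¬ IsMulCommutative G) (x y : G), x ≠ 1 →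
      y ≠ 1 → ¬ ((Subgroup.centralizer ({x} : Set G)).index).Coprime (Subgroup.centralizer ({y} : Set G)).index)
    {G : Type u} [Group G] [Finite G] [IsSimpleGroup G] (hG : ¬ IsMulCommutative G)
    (h5 : Set.ncard (idx G) = 5) (h3 : Set.ncard (heads G) ≠ 3) :
    (∃ (n : ℕ) (F : Type) (_ : Field F) (_ : Fintype F), 1 ≤ n ∧ Fintype.card F = 2 ^ (2 * n + 1) ∧
        Nonempty (G ≃* ↥(Cfsg.Lie.Sz F (2 ^ (n + 1))))) ∨
      ∃ (F : Type) (_ : Field F) (_ : Fintype F), Fintype.card F = 4 ∧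
        Nonempty (G ≃* Matrix.ProjectiveSpecialLinearGroup (Fin 3) F) := by
  obtain ⟨m, hm⟩ := good_of_five hG (hcop G hG) h5 h3
  have hc : Concl G := Good.concl hG (m := m) hm
  rcases concl_cases h1 h2 hc with h | h | h | h
  · omega
  · omega
  · exact h.2
  · omega

end Cfsg.Agent.H307.Assemble
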