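import Cfsg.Agent.H530.Cop
import Cfsg.Agent.SignalizersComponents.BalEndSz
import Cfsg.Agent.Walter.ReeTorus
import Cfsg.Agent.S1162
import Cfsg.Agent.S1163

set_option autoImplicit false

/-!
# No coprime class sizes in the Suzuki and Ree groups (for S4158)
-/

namespace Cfsg.Agent.H307.CopOne

open Subgroup Cfsg.Agent.H530.Cop

variable {G : Type*} [Group G]

/-- if the class size of `x` is divisible by all primes but `p` whenever it is prime to `p` -/
theorem noCop_of_primes [Finite G] [IsSimpleGroup G] (hna : ¬ IsMulCommutative G) {p : ℕ} (hp : p.Prime)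
    (H : ∀ x : G, x ≠ 1 → ¬ p ∣ ci x → ∀ t : ℕ, t.Prime → t ≠ p → t ∣ Nat.card G → t ∣ ci x) : NoCop G := by
  have key : ∀ x y : G, x ≠ 1 → y ≠ 1 → (ci x).Coprime (ci y) → ¬ p ∣ ci x → False := by
    intro x y hx hy hc hpx
    have h1 : ∀ t : ℕ, t.Prime → t ∣ ci y → t = p := by
      intro t ht hty
      by_contra hne
      have h2 := H x hx hpx t ht hne (hty.trans (ci_dvd_card y))
      have h3 := Nat.dvd_gcd h2 hty
      rw [hc] at h3
      exact ht.one_lt.ne' (Nat.dvd_one.1 h3)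
    have h2 := Nat.eq_prime_pow_of_unique_prime_dvd (ci_ne_zero y) (fun {t} ht htd => h1 t ht htd)
    exact ne_prime_pow hna hy hp h2
  intro x y hx hy hc
  by_cases hd : p ∣ ci x
  · refine key y x hy hx hc.symm fun h2 => ?_
    have h3 := Nat.dvd_gcd hd h2
    rw [hc] at h3
    exact hp.one_lt.ne' (Nat.dvd_one.1 h3)
  · exact key x y hx hy hc hd

/-- if the centralizers of the `p`-central elements of order `p` are `p`-groups -/
theorem noCop_of_pgroup [Finite G] [IsSimpleGroup G] (hna : ¬ IsMulCommutative G) {p : ℕ} (hp : p.Prime)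
    (hpG : p ∣ Nat.card G)
    (H : ∀ x : G, orderOf x = p → ¬ p ∣ ci x → IsPGroup p ↥(centralizer ({x} : Set G))) : NoCop G := by
  have : Fact p.Prime := ⟨hp⟩
  refine noCop_of_primes hna hp fun x hx hpx t ht htp htG => ?_
  -- it is enough that the centralizer of a conjugate is a p-group
  suffices h : ∃ g : G, IsPGroup p ↥(centralizer ({g * x * g⁻¹} : Set G)) by
    obtain ⟨g, hg⟩ := h
    rw [← ci_conj g x]
    have h1 := ci_mul_card (g * x * g⁻¹)
    rw [← h1] at htG
    rcases ht.dvd_mul.1 htG with h2 | h2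
    · exact h2
    · exfalso
      obtain ⟨k, hk⟩ := IsPGroup.iff_card.1 hg
      rw [hk] at h2
      exact htp ((Nat.prime_dvd_prime_iff_eq ht hp).1 (ht.dvd_of_dvd_pow h2))
  obtain ⟨P⟩ : Nonempty (Sylow p G) := inferInstance
  obtain ⟨g, hg⟩ := exists_conj_le hp hpx P.2
  refine ⟨g, ?_⟩
  have hcard : p ∣ Nat.card (P : Subgroup G) := P.dvd_card_of_dvd_card hpG
  have hnt : Nontrivial (P : Subgroup G) := by
    by_contra hcon
    rw [not_nontrivial_iff_subsingleton] at hcon
    rw [Nat.card_unique] at hcard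
    exact hp.one_lt.ne' (Nat.dvd_one.1 hcard)
  have hZ : Nontrivial (center (P : Subgroup G)) := P.2.center_nontrivial
  have hZp : IsPGroup p (center (P : Subgroup G)) := P.2.to_subgroup _
  have hZc : p ∣ Nat.card (center (P : Subgroup G)) := by
    obtain ⟨k, hk⟩ := IsPGroup.iff_card.1 hZp
    have h1 := Finite.one_lt_card_iff_nontrivial.2 hZ
    rw [hk] at h1 ⊢
    have : k ≠ 0 := by rintro rfl; simp at h1
    exact dvd_pow_self p this
  obtain ⟨z, hz⟩ := exists_prime_orderOf_dvd_card' p hZc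
  set w : G := ((z : (P : Subgroup G)) : G) with hw
  have how : orderOf w = p := by rw [hw, orderOf_coe, orderOf_coe, hz]
  have hPw : ∀ u ∈ (P : Subgroup G), u * w = w * u := by
    intro u hu
    have := mem_center_iff.1 z.2 ⟨u, hu⟩
    exact congrArg Subtype.val this
  -- elements centralized by P have class size prime to p
  have hcen : ∀ a : G, (∀ u ∈ (P : Subgroup G), u * a = a * u) → ¬ p ∣ ci a := by
    intro a ha hd
    have hle : (P : Subgroup G) ≤ centralizer ({a} : Set G) := fun u hu => mem_cent.2 (ha u hu)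
    exact P.not_dvd_index (hd.trans (index_dvd_of_le hle))
  have h1 := H w how (hcen w hPw)
  set x' := g * x * g⁻¹ with hx'
  have hx'w : x' ∈ centralizer ({w} : Set G) := by
    rw [mem_cent]
    exact (hg w (z : (P : Subgroup G)).2).symm
  obtain ⟨k, hk⟩ := h1 ⟨x', hx'w⟩
  have hk' : x' ^ p ^ k = 1 := congrArg Subtype.val hk
  have hx'1 : x' ≠ 1 := by
    intro h
    apply hx
    have : x = g⁻¹ * x' * g := by rw [hx']; group
    rw [this, h]; group
  obtain ⟨j, hj⟩ := exists_pow_prime hx'1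
  have hjp : orderOf (x' ^ j) = p := by
    have h2 : orderOf (x' ^ j) ∣ p ^ k := by
      refine (orderOf_pow_dvd j).trans (orderOf_dvd_of_pow_eq_one hk')
    exact (Nat.prime_dvd_prime_iff_eq hj hp).1 (hj.dvd_of_dvd_pow h2)
  have h3 := H (x' ^ j) hjp (hcen _ (by
    intro u hu
    have h4 : Commute u x' := hg u hu
    exact h4.pow_right j))
  refine h3.to_le ?_
  intro a ha
  rw [mem_cent] at ha ⊢
  have h4 : Commute a x' := ha
  exact h4.pow_right j

/-- a commutative simple group has prime order -/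
theorem prime_of_comm [Finite G] [IsSimpleGroup G] (h : IsMulCommutative G) : (Nat.card G).Prime := by
  let _ : CommGroup G := { ‹Group G› with mul_comm := fun a b => h.is_comm.comm a b }
  exact IsSimpleGroup.prime_card

/-- the Suzuki groups -/
theorem noCop_sz (h : Cfsg.Lie.IsoSuzuki G) : NoCop G := by
  obtain ⟨F, i1, i2, m, hm, hF, ⟨e⟩⟩ := h
  refine NoCop.congr e.symm ?_
  have hs : IsSimpleGroup ↥(Cfsg.Lie.Sz F (2 ^ (m + 1))) := S1162.result hm hF
  have hc := (S1163.result hm hF).1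
  have hfin : Finite ↥(Cfsg.Lie.Sz F (2 ^ (m + 1))) := inferInstance
  have h4 : 4 ∣ Nat.card ↥(Cfsg.Lie.Sz F (2 ^ (m + 1))) := by
    rw [hc]
    refine Dvd.dvd.mul_right (Dvd.dvd.mul_right ?_ _) _
    exact pow_dvd_pow_of_dvd (dvd_pow_self 2 (by omega)) 2
  have hna : ¬ IsMulCommutative ↥(Cfsg.Lie.Sz F (2 ^ (m + 1))) := by
    intro hcm
    have hp := prime_of_comm hcm
    have h2 : 2 ∣ Nat.card ↥(Cfsg.Lie.Sz F (2 ^ (m + 1))) := Dvd.dvd.trans (by norm_num) h4
    have h3 := (Nat.prime_dvd_prime_iff_eq Nat.prime_two hp).1 h2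
    rw [← h3] at h4
    norm_num at h4
  exact noCop_of_pgroup hna Nat.prime_two (Dvd.dvd.trans (by norm_num) h4) fun _ hx _ =>
    SignalizersComponents.BalEndSz.isPGroup_centralizer_suzuki ⟨F, i1, i2, m, hm, hF, ⟨MulEquiv.refl _⟩⟩ hx

/-- the spectrum of the Ree groups gives three components -/
theorem apart_of_spec [Finite G] {A B : ℕ → Prop} {a b : ℕ} (ha : a.Prime) (hb : b.Prime)
    (hda : a ∣ Nat.card G) (hdb : b ∣ Nat.card G)
    (hA : ∀ t : ℕ, t.Prime → (t = a ∨ ∃ g : G, orderOf g = t * a) → A t)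
    (hB : ∀ t : ℕ, t.Prime → (t = b ∨ ∃ g : G, orderOf g = t * b) → B t)
    (hAB : ∀ t : ℕ, t.Prime → A t → B t → False) : Apart G a b := by
  refine apart_of ha hb hda hdb fun g z w hg hz hw hgz hgw => ?_
  obtain ⟨j, hj⟩ := exists_pow_prime hg
  have key : ∀ (v : G), (orderOf v).Prime → g * v = v * g →
      (orderOf (g ^ j) = orderOf v ∨ ∃ c : G, orderOf c = orderOf (g ^ j) * orderOf v) := by
    intro v hv hgv
    by_cases he : orderOf (g ^ j) = orderOf v
    · exact Or.inl he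
    · right
      refine ⟨g ^ j * v, ?_⟩
      have hc : Commute (g ^ j) v := (show Commute g v from hgv).pow_left j
      exact hc.orderOf_mul_eq_mul_orderOf_of_coprime ((Nat.coprime_primes hj hv).2 he)
  refine hAB _ hj (hA _ hj ?_) (hB _ hj ?_)
  · have := key z (by rw [hz]; exact ha) hgz
    rwa [hz] at this
  · have := key w (by rw [hw]; exact hb) hgw
    rwa [hw] at this

/-- the Ree groups -/
theorem noCop_ree (h : Cfsg.Lie.IsoRee G) : NoCop G := by
  obtain ⟨K, i1, i2, m, hm, hK, ⟨e⟩⟩ := h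
  refine NoCop.congr e.symm ?_
  have hfin : Finite ↥(Cfsg.Lie.twistedG2 K (3 ^ m)) := inferInstance
  set q : ℕ := 3 ^ (2 * m + 1) with hq
  set r : ℕ := 3 ^ (m + 1) with hr
  have hspec := S1159.result hm hK
  have hfac : (q - r + 1) * (q + r + 1) = q ^ 2 - q + 1 := Walter.ReeTorus.factor m
  have hrq : r < q := Nat.pow_lt_pow_right (by norm_num) (by omega)
  have pf := fun (p : ℕ) (hp : p.Prime) (hd : p ∣ q ^ 2 - q + 1) =>
    Walter.ReeTorus.prime_facts (n := 2 * m + 1) (by omega) hp hd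
  have hne1 : q - r + 1 ≠ 1 := by
    have h1 : 0 < q - r := Nat.sub_pos_of_lt hrq
    intro h2
    rw [Nat.add_eq_right] at h2
    exact h1.ne' h2
  have hne2 : q + r + 1 ≠ 1 := by
    have h1 : 0 < q + r := Nat.add_pos_left (pow_pos (by norm_num) _) _
    intro h2
    rw [Nat.add_eq_right] at h2
    exact h1.ne' h2
  obtain ⟨a, ha, haA⟩ := Nat.exists_prime_and_dvd hne1
  obtain ⟨b, hb, hbB⟩ := Nat.exists_prime_and_dvd hne2
  have fA : ∀ t : ℕ, t.Prime → t ∣ q - r + 1 → t ≠ 2 ∧ t ≠ 3 ∧ ¬ t ∣ q ∧ ¬ t ∣ q - 1 ∧ ¬ t ∣ q + 1 :=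
    fun t ht hd => pf t ht (hd.trans (Dvd.intro _ hfac))
  have fB : ∀ t : ℕ, t.Prime → t ∣ q + r + 1 → t ≠ 2 ∧ t ≠ 3 ∧ ¬ t ∣ q ∧ ¬ t ∣ q - 1 ∧ ¬ t ∣ q + 1 :=
    fun t ht hd => pf t ht (hd.trans (Dvd.intro_left _ hfac))
  -- no common prime
  have hcop : ∀ t : ℕ, t.Prime → t ∣ q - r + 1 → t ∣ q + r + 1 → False := by
    intro t ht h1 h2
    have h3 : t ∣ (q + r + 1) - (q - r + 1) := Nat.dvd_sub h2 h1
    have h4 : (q + r + 1) - (q - r + 1) = 2 * r := by omega
    rw [h4, hr] at h3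
    rcases ht.dvd_mul.1 h3 with h5 | h5
    · exact (fA t ht h1).1 ((Nat.prime_dvd_prime_iff_eq ht Nat.prime_two).1 h5)
    · exact (fA t ht h1).2.1 ((Nat.prime_dvd_prime_iff_eq ht Nat.prime_three).1 (ht.dvd_of_dvd_pow h5))
  have hhalf : ∀ d : ℕ, d ∣ (q + 1) / 2 → d ∣ q + 1 := by
    intro d hd
    have hodd : Odd q := Odd.pow (by decide)
    have h2 : 2 ∣ q + 1 := (hodd.add_one).two_dvd
    exact hd.trans (Nat.div_dvd_of_dvd h2)
  have hcard : ∀ p : ℕ, (∃ g : ↥(Cfsg.Lie.twistedG2 K (3 ^ m)), orderOf g = p) →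
      p ∣ Nat.card ↥(Cfsg.Lie.twistedG2 K (3 ^ m)) := by
    rintro p ⟨g, rfl⟩
    exact orderOf_dvd_natCard g
  have ca := hcard a ((hspec a).2 (Or.inr (Or.inr (Or.inr (Or.inr (Or.inl haA))))))
  have cb := hcard b ((hspec b).2 (Or.inr (Or.inr (Or.inr (Or.inr (Or.inr hbB))))))
  have c3 := hcard 3 ((hspec 3).2 (Or.inl (by norm_num)))
  have n6 : ∀ t : ℕ, t.Prime → t ≠ 2 → t ≠ 3 → ¬ t ∣ 6 ∧ ¬ t ∣ 9 := by
    intro t ht h2 h3
    constructor
    · intro h
      rcases ht.dvd_mul.1 (show t ∣ 2 * 3 from h) with h5 | h5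
      · exact h2 ((Nat.prime_dvd_prime_iff_eq ht Nat.prime_two).1 h5)
      · exact h3 ((Nat.prime_dvd_prime_iff_eq ht Nat.prime_three).1 h5)
    · intro h
      exact h3 ((Nat.prime_dvd_prime_iff_eq ht Nat.prime_three).1 (ht.dvd_of_dvd_pow (show t ∣ 3 ^ 2 from h)))
  have HA : ∀ t : ℕ, t.Prime → (t = a ∨ ∃ g : ↥(Cfsg.Lie.twistedG2 K (3 ^ m)), orderOf g = t * a) →
      t ∣ q - r + 1 := by
    rintro t ht (rfl | hg)
    · exact haA
    · have f := fA a ha haA
      have n := n6 a ha f.1 f.2.1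
      rcases (hspec (t * a)).1 hg with h | h | h | h | h | h
      · exact absurd ((dvd_mul_left a t).trans h) n.1
      · exact absurd ((dvd_mul_left a t).trans h) n.2
      · exact absurd ((dvd_mul_left a t).trans h) f.2.2.2.1
      · exact absurd ((dvd_mul_left a t).trans (hhalf _ h)) f.2.2.2.2
      · exact (dvd_mul_right t a).trans h
      · exact absurd ((dvd_mul_left a t).trans h) (fun h' => hcop a ha haA h')
  have HB : ∀ t : ℕ, t.Prime → (t = b ∨ ∃ g : ↥(Cfsg.Lie.twistedG2 K (3 ^ m)), orderOf g = t * b) →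
      t ∣ q + r + 1 := by
    rintro t ht (rfl | hg)
    · exact hbB
    · have f := fB b hb hbB
      have n := n6 b hb f.1 f.2.1
      rcases (hspec (t * b)).1 hg with h | h | h | h | h | h
      · exact absurd ((dvd_mul_left b t).trans h) n.1
      · exact absurd ((dvd_mul_left b t).trans h) n.2
      · exact absurd ((dvd_mul_left b t).trans h) f.2.2.2.1
      · exact absurd ((dvd_mul_left b t).trans (hhalf _ h)) f.2.2.2.2
      · exact absurd ((dvd_mul_left b t).trans h) (fun h' => hcop b hb h' hbB)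
      · exact (dvd_mul_right t b).trans h
  have hm3 : ∀ n : ℕ, ¬ 3 ∣ 3 ^ (n + 1) + 1 := by
    intro n h
    have : 3 ∣ 3 ^ (n + 1) := dvd_pow_self 3 (by omega)
    have := (Nat.dvd_add_right this).1 h
    omega
  have HC : ∀ t : ℕ, t.Prime → (t = 3 ∨ ∃ g : ↥(Cfsg.Lie.twistedG2 K (3 ^ m)), orderOf g = t * 3) →
      t = 2 ∨ t = 3 := by
    rintro t ht (rfl | hg)
    · exact Or.inr rfl
    · have h3q : 3 ∣ q := dvd_pow_self 3 (by omega)
      have h3r : 3 ∣ r := dvd_pow_self 3 (by omega)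
      rcases (hspec (t * 3)).1 hg with h | h | h | h | h | h
      · left
        have : t ∣ 2 := Nat.dvd_of_mul_dvd_mul_right (by norm_num : 0 < 3) (show t * 3 ∣ 2 * 3 from h)
        exact (Nat.prime_dvd_prime_iff_eq ht Nat.prime_two).1 this
      · right
        have : t ∣ 3 := Nat.dvd_of_mul_dvd_mul_right (by norm_num : 0 < 3) (show t * 3 ∣ 3 * 3 from h)
        exact (Nat.prime_dvd_prime_iff_eq ht Nat.prime_three).1 this
      · exfalso
        have h1 : 3 ∣ q - 1 := (dvd_mul_left 3 t).trans h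
        have h2 : 0 < q := pow_pos (by norm_num) _
        have h4 : 3 ∣ q - (q - 1) := Nat.dvd_sub h3q h1
        rw [Nat.sub_sub_self h2] at h4
        norm_num at h4
      · exfalso
        have h1 : 3 ∣ q + 1 := (dvd_mul_left 3 t).trans (hhalf _ h)
        have h4 := (Nat.dvd_add_right h3q).1 h1
        norm_num at h4
      · exfalso
        have h1 : 3 ∣ q - r + 1 := (dvd_mul_left 3 t).trans h
        have h4 := (Nat.dvd_add_right (Nat.dvd_sub h3q h3r)).1 h1
        norm_num at h4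
      · exfalso
        have h1 : 3 ∣ q + r + 1 := (dvd_mul_left 3 t).trans h
        have h4 := (Nat.dvd_add_right (dvd_add h3q h3r)).1 h1
        norm_num at h4
  refine noCop_of_apart ha hb Nat.prime_three
    (apart_of_spec ha hb ca cb HA HB hcop)
    (apart_of_spec hb Nat.prime_three cb c3 HB HC ?_)
    (apart_of_spec ha Nat.prime_three ca c3 HA HC ?_)
  · rintro t ht h1 (rfl | rfl)
    · exact (fB _ ht h1).1 rfl
    · exact (fB _ ht h1).2.1 rfl
  · rintro t ht h1 (rfl | rfl)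
    · exact (fA _ ht h1).1 rfl
    · exact (fA _ ht h1).2.1 rfl

end Cfsg.Agent.H307.CopOne
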