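import Cfsg.Agent.H931.CopPsu
import Cfsg.Agent.H307.HermCW

/-!
# No coprime class sizes in `PSU_n(q)`, `n ≥ 3` (for S4158)
-/

set_option autoImplicit false

namespace Cfsg.Agent.H307.CopPsuMain

open Matrix Subgroup Cfsg Cfsg.Agent.H530.Cop Cfsg.Agent.H307.HermCW Cfsg.Agent.H931.CopPsu
open Cfsg.Agent.LieClassical.HermBasic Cfsg.Agent.LieClassical.HermSiegel Cfsg.Agent.LieClassical.HermSimple
open Cfsg.Agent.ClassicalGeometry.PSUAutBasic Cfsg.Agent.LieClassical.SUBasic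

variable {F : Type} [Field F] [Fintype F] {n q : ℕ}

theorem herm_eq_qf (hF : Fintype.card F = q ^ 2) (Y : SU n F q) (v : Fin n → F) :
    hermForm n F q v (act Y v) = qf q (fun i j => mat Y i j ^ q) v := by
  unfold hermForm qf
  refine Finset.sum_congr rfl fun i _ => ?_
  rw [act_def, mulVec, dotProduct, HermCW.sum_pow_q hF, Finset.mul_sum]
  refine Finset.sum_congr rfl fun j _ => ?_
  ring

theorem qf_smul_pow (hF : Fintype.card F = q ^ 2) (a : F) (A : Fin n → Fin n → F) (v : Fin n → F) :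
    a * qf q A v + (a * qf q A v) ^ q = qf q (fun i j => a * A i j + (a * A j i) ^ q) v := by
  have h1 : (a * qf q A v) ^ q = qf q (fun i j => (a * A j i) ^ q) v := by
    have h2 : (a * qf q A v) ^ q = ∑ i, ∑ j, (a * A i j) ^ q * v i ^ q * v j := by
      unfold qf
      rw [Finset.mul_sum, HermCW.sum_pow_q hF]
      refine Finset.sum_congr rfl fun i _ => ?_
      rw [Finset.mul_sum, HermCW.sum_pow_q hF]
      refine Finset.sum_congr rfl fun j _ => ?_
      rw [mul_pow, mul_pow, mul_pow, mul_pow, HermCW.pow_q_q hF]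
      ring
    rw [h2, Finset.sum_comm]
    unfold qf
    refine Finset.sum_congr rfl fun i _ => Finset.sum_congr rfl fun j _ => by ring
  rw [h1]
  unfold qf
  rw [Finset.mul_sum, ← Finset.sum_add_distrib]
  refine Finset.sum_congr rfl fun i _ => ?_
  rw [Finset.mul_sum, ← Finset.sum_add_distrib]
  refine Finset.sum_congr rfl fun j _ => ?_
  ring

theorem exists_vec (hF : Fintype.card F = q ^ 2) {κ : Type*} [Fintype κ] (a : κ → F)
    (hk : Fintype.card κ + 1 < n) (Y : SU n F q) :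
    ∃ v : Fin n → F, v ≠ 0 ∧ hermForm n F q v v = 0 ∧
      ∀ k, a k * hermForm n F q v (act Y v) + (a k * hermForm n F q v (act Y v)) ^ q = 0 := by
  let M : Option κ → Fin n → Fin n → F := fun k => match k with
    | none => fun i j => if i = j then 1 else 0
    | some k => fun i j => a k * mat Y i j ^ q + (a k * mat Y j i ^ q) ^ q
  obtain ⟨v, hv, h⟩ := exists_common hF M (by
    rintro (_ | k) i j
    · change (if i = j then (1 : F) else 0) ^ q = if j = i then 1 else 0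
      by_cases hij : i = j
      · rw [if_pos hij, if_pos hij.symm, one_pow]
      · rw [if_neg hij, if_neg (Ne.symm hij), zero_pow (by have := HermCW.one_lt hF; omega)]
    · change (a k * mat Y i j ^ q + (a k * mat Y j i ^ q) ^ q) ^ q =
        a k * mat Y j i ^ q + (a k * mat Y i j ^ q) ^ q
      rw [HermCW.add_pow_q hF, HermCW.pow_q_q hF, add_comm]) (by
    rw [Fintype.card_option, Fintype.card_fin]; exact hk)
  refine ⟨v, hv, ?_, fun k => ?_⟩
  · have h1 := h none
    rw [← h1]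
    unfold hermForm qf
    refine Finset.sum_congr rfl fun i _ => ?_
    change v i * v i ^ q = ∑ j, (if i = j then (1 : F) else 0) * v i * v j ^ q
    rw [Finset.sum_eq_single i (fun j _ hj => by rw [if_neg (Ne.symm hj)]; ring)
      (fun h => absurd (Finset.mem_univ i) h), if_pos rfl, one_mul]
  · have h1 := h (some k)
    rw [herm_eq_qf hF, qf_smul_pow hF]
    exact h1

/-- `θ ^ (q - 1)` has order `q + 1` -/
theorem exists_theta (hF : Fintype.card F = q ^ 2) {k : ℕ} (hk : 0 < k) (hkq : k < q + 1) :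
    ∃ θ : F, θ ≠ 0 ∧ (θ ^ (q - 1)) ^ k ≠ 1 := by
  obtain ⟨γ, hγ⟩ := IsCyclic.exists_generator (α := Fˣ)
  have hq := HermCW.one_lt hF
  have hord : orderOf γ = (q - 1) * (q + 1) := by
    rw [orderOf_eq_card_of_forall_mem_zpowers hγ, Nat.card_units, Nat.card_eq_fintype_card, hF]
    obtain ⟨r, rfl⟩ : ∃ r, q = r + 1 := ⟨q - 1, by omega⟩
    rw [show (r + 1) ^ 2 = r * (r + 1 + 1) + 1 by ring]
    simp
  refine ⟨γ, γ.ne_zero, fun h => ?_⟩
  have h1 : (γ ^ (q - 1)) ^ k = 1 := by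
    apply Units.ext
    rw [Units.val_pow_eq_pow_val, Units.val_pow_eq_pow_val, h, Units.val_one]
  rw [← pow_mul] at h1
  have h2 := orderOf_dvd_of_pow_eq_one h1
  rw [hord] at h2
  have h3 := Nat.dvd_of_mul_dvd_mul_left (by omega) h2
  have := Nat.le_of_dvd hk h3
  omega

/-- the ratio -/
theorem pow_eq_of_trace {q : ℕ} (hq : 1 < q) {a B : F} (ha : a ≠ 0) (hB : B ≠ 0) (h : a * B + (a * B) ^ q = 0) :
    a ^ (q - 1) * B ^ (q - 1) = -1 := by
  have h1 : (a * B) ^ (q - 1) * (a * B) = (a * B) ^ q := by rw [← pow_succ, Nat.sub_add_cancel hq.le]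
  rw [← mul_pow]
  have h2 : (1 + (a * B) ^ (q - 1)) * (a * B) = 0 := by rw [add_mul, one_mul, h1, h]
  have h3 := (mul_eq_zero.1 h2).resolve_right (mul_ne_zero ha hB)
  linear_combination h3

theorem noCop_psu_four (hF : Fintype.card F = q ^ 2) (hn : 4 ≤ n) : NoCop (PSU n F q) := by
  refine noCop_of_exists hF (by omega) (by omega) fun Y => ?_
  obtain ⟨θ, hθ0, hθ⟩ := exists_theta hF (k := 1) one_pos (by have := HermCW.one_lt hF; omega)
  obtain ⟨v, hv0, hv, h⟩ := exists_vec hF (κ := Fin 2) ![1, θ] (by rw [Fintype.card_fin]; omega) Y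
  refine ⟨v, hv0, hv, ?_⟩
  by_contra hB
  have h1 := pow_eq_of_trace (HermCW.one_lt hF) one_ne_zero hB (h 0)
  have h2 := pow_eq_of_trace (HermCW.one_lt hF) hθ0 hB (h 1)
  rw [one_pow, one_mul] at h1
  rw [h1] at h2
  apply hθ
  rw [pow_one]
  linear_combination -h2

theorem noCop_psu_three (hF : Fintype.card F = q ^ 2) (hq : q ≠ 2) : NoCop (PSU 3 F q) := by
  have hq1 := HermCW.one_lt hF
  have hn : 3 ≤ 3 := le_rfl
  have h32 : ¬ (3 = 3 ∧ q = 2) := fun h => hq h.2
  obtain ⟨p, hp⟩ := CharP.exists F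
  have hpp : Fact p.Prime := ⟨CharP.char_is_prime F p⟩
  have hfin : Finite (PSU 3 F q) := Quotient.finite _
  have hsimple : IsSimpleGroup (PSU 3 F q) :=
    isSimpleGroup_of_perfect hF hn (LieClassical.HermPerfect.commutator_SU_eq_top hF hn h32)
  have hna : ¬ IsMulCommutative (PSU 3 F q) := by
    intro hcomm
    have h1 : commutator (SU 3 F q) ≤ center (SU 3 F q) := by
      rw [commutator_def, Subgroup.commutator_le]
      intro g _ h _
      rw [← pr_eq_one_iff, commutatorElement_def, map_mul, map_mul, map_mul, map_inv, map_inv]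
      have := hcomm.is_comm.comm (pr 3 F q g) (pr 3 F q h)
      rw [this]
      group
    rw [LieClassical.HermPerfect.commutator_SU_eq_top hF hn h32, top_le_iff] at h1
    exact center_ne_top hF hn h1
  refine noCop_of_char hna hpp.out ⊥ IsPGroup.of_bot ?_
  intro x y hx hy _ hc hpx _
  have hx1 : x ≠ 1 := fun h => by rw [h, orderOf_one] at hx; exact Nat.not_prime_one hx
  have hy1 : y ≠ 1 := fun h => by rw [h, orderOf_one] at hy; exact Nat.not_prime_one hy
  obtain ⟨Y, hY⟩ := pr_surjective y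
  -- no isotropic vector with `h(v, Y v) = 0`
  have hno : ∀ v : Fin 3 → F, v ≠ 0 → hermForm 3 F q v v = 0 → hermForm 3 F q v (act Y v) ≠ 0 := by
    intro v hv0 hv hvY
    have hall : ∀ u : Fin 3 → F, hermForm 3 F q u u = 0 → hermForm 3 F q u (act Y u) = 0 := by
      intro u hu
      by_cases hu0 : u = 0
      · rw [hu0, herm_zero_left]
      obtain ⟨C, s, r, hs, -, hr, h1, h2⟩ := trans hF hn hx1 hc hpx hY hv0 hv hu0 hu
      exact herm_eq_zero_of_trans hs hr h1 h2 hvY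
    obtain ⟨d, hd⟩ := scalar_of_fix_iso hF hn (fix_of_orth hF hall)
    apply hy1
    rw [← hY, pr_eq_one_iff]
    exact mem_center_of_act hd
  -- the two vectors
  obtain ⟨θ, hθ0, hθ⟩ := exists_theta hF (k := 3) (by norm_num) (by omega)
  obtain ⟨v₁, hv₁, hi₁, h₁⟩ := exists_vec hF (κ := Fin 1) ![1] (by rw [Fintype.card_fin]; omega) Y
  obtain ⟨v₂, hv₂, hi₂, h₂⟩ := exists_vec hF (κ := Fin 1) ![θ] (by rw [Fintype.card_fin]; omega) Y
  have e₁ := pow_eq_of_trace hq1 one_ne_zero (hno v₁ hv₁ hi₁) (h₁ 0)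
  have e₂ := pow_eq_of_trace hq1 hθ0 (hno v₂ hv₂ hi₂) (h₂ 0)
  rw [one_pow, one_mul] at e₁
  obtain ⟨C, s, r, hs, hr3, hr, hC, hCY⟩ := trans hF hn hx1 hc hpx hY hv₁ hi₁ hv₂ hi₂
  have h3 : hermForm 3 F q v₁ (act Y v₁) = s * (r ^ q * (s ^ q * hermForm 3 F q v₂ (act Y v₂))) := by
    rw [← herm_act C v₁ (act Y v₁), hCY, hC, act_smul, herm_smul_left, herm_smul_right, herm_smul_right]
  set B₁ := hermForm 3 F q v₁ (act Y v₁)
  set B₂ := hermForm 3 F q v₂ (act Y v₂)
  -- `s ^ ((q + 1) (q - 1)) = 1`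
  have hs1 : (s * s ^ q) ^ (q - 1) = 1 := by
    rw [← pow_succ', ← pow_mul]
    have h4 : (q + 1) * (q - 1) = Fintype.card F - 1 := by
      rw [hF]
      obtain ⟨t, rfl⟩ : ∃ t, q = t + 1 := ⟨q - 1, by omega⟩
      rw [show (t + 1) ^ 2 = (t + 1 + 1) * t + 1 by ring]
      simp
    rw [h4]
    exact FiniteField.pow_card_sub_one_eq_one s hs
  have h5 : B₁ ^ (q - 1) = (r ^ q) ^ (q - 1) * B₂ ^ (q - 1) := by
    rw [h3, show s * (r ^ q * (s ^ q * B₂)) = (s * s ^ q) * (r ^ q * B₂) by ring, mul_pow, hs1, one_mul, mul_pow]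
  rw [e₁] at h5
  have h6 : θ ^ (q - 1) = (r ^ q) ^ (q - 1) := by
    have h7 : B₂ ^ (q - 1) ≠ 0 := pow_ne_zero _ (hno v₂ hv₂ hi₂)
    apply mul_right_cancel₀ h7
    rw [← h5]
    exact e₂
  apply hθ
  rw [h6, ← pow_mul, ← pow_mul, show q * ((q - 1) * 3) = 3 * (q * (q - 1)) by ring, pow_mul, hr3, one_pow]

/-- `PSU_n(q)`, `n ≥ 3`, `(n, q) ≠ (3, 2)` -/
theorem noCop_psu (hF : Fintype.card F = q ^ 2) (hn : 3 ≤ n) (h32 : ¬ (n = 3 ∧ q = 2)) : NoCop (PSU n F q) := by
  rcases Nat.lt_or_ge n 4 with h | h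
  · obtain rfl : n = 3 := by omega
    exact noCop_psu_three hF fun hq => h32 ⟨rfl, hq⟩
  · exact noCop_psu_four hF h

end Cfsg.Agent.H307.CopPsuMain
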