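import Cfsg.Agent.H307.NodeTypes
import Cfsg.Agent.H355.FiltClass

/-!
# No coprime class sizes: groups with a root group datum of exceptional type (helper307, for S4158)

`noCop_TD4` : the row `³D₄(q)`; `noCop_of_filtOf` : every type whose nodes satisfy `NodeOK`.
-/

set_option autoImplicit false
set_option linter.unusedSectionVars false

namespace Cfsg.Agent.H307.ExcNoCop

open Cfsg CoxeterSystem Cfsg.Agent.ChevalleyStructure.CoxeterGeom Cfsg.Agent.Tits.Roots
open Cfsg.Agent.Nodes.BNOf Cfsg.Agent.H355.Rgd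
open Cfsg.Agent.H530.Cop Cfsg.Agent.H307.RgdNoCop Cfsg.Agent.H307.NodeTypes
open Cfsg.Lie Cfsg.Agent.ChevalleyStructure Cfsg.Agent.ChevalleyStructure.CoxeterGeomTypes

theorem noCop_of_filtOf {l : ℕ} {M : CoxeterMatrix (Fin l)} {p : ℕ} [Fact p.Prime] {G : Type*} [Group G]
    [Finite G] [IsSimpleGroup G] (hna : ¬ IsMulCommutative G) (hF : FiltOf M p G)
    (hok : ∀ [Finite M.Group] {A : Fin l → Fin l → ℤ} (h : IsCartan M A) (s : Fin l),
      NodeOK M.toCoxeterSystem h s) : NoCop G := by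
  obtain ⟨A, h, T, n, X, R, F, hW, hX, -⟩ := hF
  exact noCop_of_rgd hna R hX fun s => hok h s

/-- `³D₄(q)` -/
theorem noCop_TD4 {K : Type} [Field K] [Fintype K] {q : ℕ} (hq : IsPrimePow q) (hK : Fintype.card K = q ^ 3)
    [IsSimpleGroup ↥(twistedD4 K q)] (hna : ¬ IsMulCommutative ↥(twistedD4 K q)) : NoCop ↥(twistedD4 K q) := by
  obtain ⟨p, hp⟩ := CharP.exists K
  have : Fact p.Prime := ⟨CharP.char_is_prime K p⟩
  exact noCop_of_filtOf hna (filtOf_twD4 hq hK p) fun h s => nodeOKG _ h s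

/-- `²E₆(q)` -/
theorem noCop_TE6 {K : Type} [Field K] [Fintype K] {q : ℕ} (hq : IsPrimePow q) (hK : Fintype.card K = q ^ 2)
    [IsSimpleGroup ↥(twistedE6 K q)] (hna : ¬ IsMulCommutative ↥(twistedE6 K q)) : NoCop ↥(twistedE6 K q) := by
  obtain ⟨p, hp⟩ := CharP.exists K
  have : Fact p.Prime := ⟨CharP.char_is_prime K p⟩
  exact noCop_of_filtOf hna (filtOf_twE6 hq hK p) fun h s => nodeOKF _ h s

end Cfsg.Agent.H307.ExcNoCop
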