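import Mathlib

set_option autoImplicit false

/-! # Centralizers in groups with at most one non-maximal centralizer order: basic facts -/

namespace Cfsg.Agent.H307.Good

open Subgroup

variable {G : Type*} [Group G]

/-- the centralizer of an element -/
abbrev cen (x : G) : Subgroup G := Subgroup.centralizer ({x} : Set G)

theorem mem_cen {x g : G} : g ∈ cen x ↔ g * x = x * g := by
  rw [Subgroup.mem_centralizer_singleton_iff]
  

theorem self_mem_cen (x : G) : x ∈ cen x := mem_cen.2 rfl

theorem mem_cen_comm {x g : G} : g ∈ cen x ↔ x ∈ cen g := by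
  rw [mem_cen, mem_cen]; exact eq_comm

theorem cen_le_cen_iff {x y : G} : cen x ≤ cen y ↔ ∀ g : G, g * x = x * g → g * y = y * g := by
  constructor
  · intro h g hg
    exact mem_cen.1 (h (mem_cen.2 hg))
  · intro h g hg
    exact mem_cen.2 (h g (mem_cen.1 hg))

theorem cen_le_cen_pow (x : G) (n : ℕ) : cen x ≤ cen (x ^ n) := by
  intro g hg
  have h : Commute g x := mem_cen.1 hg
  exact mem_cen.2 (h.pow_right n)

theorem cen_inf_le_mul (x y : G) : cen x ⊓ cen y ≤ cen (x * y) := by
  intro g hg
  have h1 : Commute g x := mem_cen.1 hg.1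
  have h2 : Commute g y := mem_cen.1 hg.2
  exact mem_cen.2 (h1.mul_right h2)

theorem mem_zpow_mul_left [Finite G] {x y : G} (hxy : Commute x y)
    (hc : (orderOf x).Coprime (orderOf y)) : ∃ n : ℕ, (x * y) ^ n = x := by
  obtain ⟨k, hk1, hk2⟩ := Nat.chineseRemainder hc 1 0
  refine ⟨k, ?_⟩
  rw [hxy.mul_pow]
  have h1 : x ^ k = x ^ 1 := pow_eq_pow_iff_modEq.2 hk1
  have h2 : y ^ k = y ^ 0 := pow_eq_pow_iff_modEq.2 hk2
  rw [h1, h2, pow_one, pow_zero, mul_one]

theorem cen_mul [Finite G] {x y : G} (hxy : Commute x y) (hc : (orderOf x).Coprime (orderOf y)) :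
    cen (x * y) = cen x ⊓ cen y := by
  apply le_antisymm
  · apply le_inf
    · obtain ⟨n, hn⟩ := mem_zpow_mul_left hxy hc
      conv_rhs => rw [← hn]
      exact cen_le_cen_pow _ _
    · obtain ⟨n, hn⟩ := mem_zpow_mul_left hxy.symm hc.symm
      conv_rhs => rw [← hn, ← hxy.eq]
      exact cen_le_cen_pow _ _
  · exact cen_inf_le_mul x y

/-- whenever a centralizer of a nontrivial element is properly contained in another one, its order is `m` -/
def IsGood (G : Type*) [Group G] (m : ℕ) : Prop :=
  ∀ x y : G, x ≠ 1 → y ≠ 1 → cen x < cen y → Nat.card (cen x) = m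

variable [Finite G] {m : ℕ}

theorem IsGood.minimal (h : IsGood G m) {x : G} (hx : x ≠ 1) (hxm : Nat.card (cen x) = m) {y : G}
    (hy : y ≠ 1) (hle : cen y ≤ cen x) : cen y = cen x := by
  by_contra hne
  have hlt : cen y < cen x := lt_of_le_of_ne hle hne
  have h1 := h y x hy hx hlt
  exact hne (Subgroup.eq_of_le_of_card_ge hle (by rw [h1, hxm]))

theorem IsGood.maximal (h : IsGood G m) {x : G} (hx : x ≠ 1) (hxm : Nat.card (cen x) ≠ m) {y : G}
    (hy : y ≠ 1) (hle : cen x ≤ cen y) : cen x = cen y := by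
  by_contra hne
  exact hxm (h x y hx hy (lt_of_le_of_ne hle hne))

/-- if `cen u` has order `m`, an element of `cen u` of order prime to that of `u` is central in it. -/
theorem IsGood.central (h : IsGood G m) {u w : G} (hu : u ≠ 1) (hum : Nat.card (cen u) = m)
    (hw : w ∈ cen u) (hc : (orderOf u).Coprime (orderOf w)) : cen u ≤ cen w := by
  have hcomm : Commute u w := (mem_cen.1 hw).symm
  have h1 := cen_mul hcomm hc
  have hne : u * w ≠ 1 := by
    intro h0
    have : w = u⁻¹ := eq_inv_of_mul_eq_one_right h0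
    rw [this, orderOf_inv, Nat.coprime_self, orderOf_eq_one_iff] at hc
    exact hu hc
  have h2 := h.minimal hu hum hne (by rw [h1]; exact inf_le_left)
  rw [← h2, h1]
  exact inf_le_right

/-- if `z` has centralizer `H` and `w ∈ H` has order prime to that of `z`, `w` is central in `H`
or `H ⊓ cen w` has order `m`. -/
theorem IsGood.card_inf (h : IsGood G m) {z w : G} (hz : z ≠ 1) (hw : w ∈ cen z)
    (hc : (orderOf z).Coprime (orderOf w)) (hn : ¬ cen z ≤ cen w) :
    Nat.card ↥(cen z ⊓ cen w) = m := by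
  have hcomm : Commute z w := (mem_cen.1 hw).symm
  have h1 := cen_mul hcomm hc
  have hne : z * w ≠ 1 := by
    intro h0
    have : w = z⁻¹ := eq_inv_of_mul_eq_one_right h0
    rw [this, orderOf_inv, Nat.coprime_self, orderOf_eq_one_iff] at hc
    exact hz hc
  rw [← h1]
  refine h _ _ hne hz ?_
  rw [h1]
  exact lt_of_le_of_ne inf_le_left (fun h2 => hn (by rw [← h2]; exact inf_le_right))

end Cfsg.Agent.H307.Good
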