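import Mathlib
import Cfsg.Agent.Nodes.StabComb
import Cfsg.Agent.Nodes.Coroot
import Cfsg.Agent.Nodes.PosPair

/-!
# Root combinatorics for automorphisms moving all points to the same relative position

`(W, I)` a finite Weyl group, `s` a node, `K` a set of nodes.  Suppose that all the elements `g w g⁻¹`, `w ∈ W_K` of
full support, `g` minimal in `g W_K`, lie in ONE double coset `W_{I-s} u₀ W_{I-s}`. Then `s ∉ K`, if the roots conjugate
to `α_s` have coefficients `≥ 2` at `s` (`false_of_good`), or in the simply laced minuscule case (`false_of_minus`).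
-/

set_option autoImplicit false
set_option linter.unusedSectionVars false

namespace Cfsg.Agent.H307.RootMove

open CoxeterSystem Cfsg.Agent.ChevalleyStructure.CoxeterGeom Cfsg.Agent.Tits.Roots Cfsg.Agent.Tits.Core
  Cfsg.Agent.Tits.RootComb Cfsg.Agent.Tits.Exchange Cfsg.Agent.Nodes.Comb Cfsg.Agent.Nodes.StabComb
  Cfsg.Agent.Nodes.Coroot

variable {I W : Type*} [Fintype I] [DecidableEq I] [Group W] {M : CoxeterMatrix I}
  {cs : CoxeterSystem M W} {A : I → I → ℤ} {h : IsCartan M A}

/-- `w ∈ W_K` has full support. -/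
def Full (cs : CoxeterSystem M W) (K : Set I) (w : W) : Prop := w ∈ WJ cs K ∧ ∀ K' ⊆ K, K' ≠ K → w ∉ WJ cs K'

/-- The hypothesis: the elements `g w g⁻¹` lie in one double coset. -/
def OneCoset (cs : CoxeterSystem M W) (h : IsCartan M A) (K : Set I) (J : Set I) (u0 : W) : Prop :=
  ∀ g : W, (∀ k ∈ K, 0 ≤ rep cs h g (sr k)) → ∀ w, Full cs K w →
    ∃ a ∈ WJ cs J, ∃ b ∈ WJ cs J, g * w * g⁻¹ = a * u0 * b

theorem exists_mem_not {K K' : Set I} (h1 : K' ⊆ K) (h2 : K' ≠ K) : ∃ k ∈ K, k ∉ K' := by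
  by_contra hcon
  push Not at hcon
  exact h2 (Set.Subset.antisymm h1 hcon)

/-- the longest element has full support -/
theorem full_longest [Finite W] (h : IsCartan M A) {K : Set I} {w : W} (hw : IsLongest cs K w) : Full cs K w := by
  refine ⟨hw.1, fun K' h1 h2 h3 => ?_⟩
  obtain ⟨k, hk, hk'⟩ := exists_mem_not h1 h2
  have h4 := rep_apply_of_mem cs h h3 (sr k) hk'
  have h5 := rep_longest_nonpos (h := h) hw (sr_mem_PosJ (cs := cs) (h := h) hk) k
  rw [h4, sr_self] at h5
  exact absurd h5 (by norm_num)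

/-- the product of the longest element of `K \ {s}` and of `s` -/
theorem full_mul [Finite W] (h : IsCartan M A) {K : Set I} {s : I} (hs : s ∈ K) {c : W}
    (hc : IsLongest cs (K \ {s}) c) : Full cs K (c * cs.simple s) := by
  refine ⟨mul_mem (WJ_mono cs Set.sdiff_subset hc.1) (simple_mem_WJ cs hs), fun K' h1 h2 h3 => ?_⟩
  obtain ⟨k, hk, hk'⟩ := exists_mem_not h1 h2
  by_cases hks : k = s
  · subst hks
    have h4 : cs.simple k ∈ WJ cs {i | i ≠ k} := by
      have h5 : cs.simple k = c⁻¹ * (c * cs.simple k) := by group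
      rw [h5]
      refine mul_mem (inv_mem (WJ_mono cs (fun i hi => hi.2) hc.1)) (WJ_mono cs (fun i hi => ?_) h3)
      rintro rfl
      exact hk' hi
    have h5 := rep_apply_of_mem cs h h4 (sr k) (k := k) (fun hh => hh rfl)
    rw [rep_simple_sr, Pi.neg_apply, sr_self] at h5
    exact absurd h5 (by norm_num)
  · have h4 : c ∈ WJ cs {i | i ≠ k} := by
      have h5 : c = c * cs.simple s * cs.simple s := by rw [mul_assoc, cs.simple_mul_simple_self, mul_one]
      rw [h5]
      refine mul_mem (WJ_mono cs (fun i hi => ?_) h3) (simple_mem_WJ cs fun hh => hks hh.symm)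
      rintro rfl
      exact hk' hi
    have h5 := rep_apply_of_mem cs h h4 (sr k) (k := k) (fun hh => hh rfl)
    have h6 := rep_longest_nonpos (h := h) hc (sr_mem_PosJ (cs := cs) (h := h) (J := K \ {s}) ⟨hk, hks⟩) k
    rw [h5, sr_self] at h6
    exact absurd h6 (by norm_num)

/-- positive roots of `K` stay positive under minimal `g` -/
theorem nonneg_of_posJ {K : Set I} {g : W} (hg : ∀ k ∈ K, 0 ≤ rep cs h g (sr k)) {x : I → ℤ}
    (hx : 0 ≤ x) (hK : ∀ k, k ∉ K → x k = 0) : 0 ≤ rep cs h g x := by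
  have h1 : x = ∑ k, x k • sr k := by
    funext j
    rw [Finset.sum_apply, Finset.sum_eq_single j]
    · rw [Pi.smul_apply, sr_self, smul_eq_mul, mul_one]
    · intro k _ hk
      rw [Pi.smul_apply, sr_ne hk.symm, smul_zero]
    · intro hh; exact absurd (Finset.mem_univ _) hh
  rw [h1, map_sum]
  refine Finset.sum_nonneg fun k _ => ?_
  rw [map_smul]
  by_cases hk : k ∈ K
  · exact smul_nonneg (hx k) (hg k hk)
  · rw [hK k hk, zero_smul]

/-- the elements are in the double coset of `s` -/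
theorem exists_of_oneCoset [Finite W] {K J : Set I} {u0 : W} {s : I} (hs : s ∈ K) (hJ : ∀ i ∈ J, i ≠ s)
    (H : OneCoset cs h K J u0) {g : W} (hg : ∀ k ∈ K, 0 ≤ rep cs h g (sr k)) {w : W} (hw : Full cs K w) :
    ∃ a ∈ WJ cs {i | i ≠ s}, ∃ b ∈ WJ cs {i | i ≠ s}, g * w * g⁻¹ = a * cs.simple s * b := by
  obtain ⟨c, hc⟩ := exists_isLongest cs (K \ {s})
  obtain ⟨a1, ha1, b1, hb1, e1⟩ := H 1 (fun k _ => by rw [map_one]; exact sr_nonneg k) _ (full_mul h hs hc)
  obtain ⟨a2, ha2, b2, hb2, e2⟩ := H g hg w hw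
  have hJ' : WJ cs J ≤ WJ cs {i | i ≠ s} := WJ_mono cs hJ
  have hc' : c ∈ WJ cs {i | i ≠ s} := WJ_mono cs (fun i hi => hi.2) hc.1
  refine ⟨a2 * a1⁻¹ * c, mul_mem (mul_mem (hJ' ha2) (inv_mem (hJ' ha1))) hc', b1⁻¹ * b2,
    mul_mem (inv_mem (hJ' hb1)) (hJ' hb2), ?_⟩
  rw [e2]
  have h1 : u0 = a1⁻¹ * (c * cs.simple s) * b1⁻¹ := by
    have : c * cs.simple s = a1 * u0 * b1 := by rw [← e1]; group
    rw [this]; group
  rw [h1]
  group

/-- roots conjugate to `α_s` and different from it have pairing at most one with it -/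
theorem pairing_le_one [Finite W] (s : I) (w : W) (hne : rep cs h w (sr s) ≠ sr s) :
    pairing A s (rep cs h w (sr s)) ≤ 1 := by
  have : Fintype W := Fintype.ofFinite W
  set x := rep cs h w (sr s) with hx
  have hxr : IsRoot cs h x := ⟨w, s, rfl⟩
  have hff : form cs h x x = form cs h (sr s) (sr s) := by rw [hx, form_rep]
  have hpos := form_pos cs h (sr_ne_zero s)
  have h2 := two_form cs h s x
  by_cases hneg : x = -sr s
  · rw [hneg, form_neg_left] at h2
    rw [hneg]
    by_contra hcon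
    push Not at hcon
    nlinarith
  · have h3 := Cfsg.Agent.Nodes.PosPair.gram_pos cs h hxr (isRoot_sr cs h s) hne hneg
    rw [hff] at h3
    by_contra hcon
    push Not at hcon
    have h4 : form cs h (sr s) (sr s) ≤ form cs h x (sr s) := by nlinarith
    nlinarith

/-- **Good nodes.** -/
theorem false_of_good [Finite W] {K J : Set I} {u0 : W} {s : I} (hs : s ∈ K) (hJ : ∀ i ∈ J, i ≠ s)
    (H : OneCoset cs h K J u0) {w1 : W} (h2 : 2 ≤ rep cs h w1 (sr s) s) : False := by
  set r := rep cs h w1 (sr s) with hr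
  have hrr : IsRoot cs h r := ⟨w1, s, rfl⟩
  have hr0 : 0 ≤ r := nonneg_of_pos_apply hrr (k := s) (by omega)
  -- `g` minimal in `w1 W_K`
  obtain ⟨u', hu', hmin⟩ := exists_min cs w1 K
  set g := w1 * u' with hg
  have hgK : ∀ k ∈ K, 0 ≤ rep cs h g (sr k) := fun k hk => nonneg_of_min cs h hu' hmin hk
  obtain ⟨wK, hwK⟩ := exists_isLongest cs K
  obtain ⟨a, ha, b, hb, e⟩ := exists_of_oneCoset hs hJ H hgK (full_longest h hwK)
  -- `β = g⁻¹ r` is a positive root of `K`
  set β := rep cs h g⁻¹ r with hβ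
  have hβK : β ∈ RootsJ cs h K := by
    have h3 : β = rep cs h u'⁻¹ (sr s) := by
      rw [hβ, hr, ← rep_mul_apply, hg]
      congr 2
      group
    rw [h3]
    exact RootsJ.act (inv_mem hu') (PosJ_subset K (sr_mem_PosJ hs))
  have hβ0 : 0 ≤ β := by
    rcases hβK.1.pos_or_neg with h3 | h3
    · exact h3
    · exfalso
      have h4 : 0 ≤ rep cs h g (-β) := nonneg_of_posJ hgK (neg_nonneg.2 h3) fun k hk => by
        rw [Pi.neg_apply, hβK.2 k hk, neg_zero]
      have h5 : rep cs h g (-β) = -r := by rw [map_neg, hβ, rep_apply_inv]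
      rw [h5] at h4
      have := h4 s
      rw [Pi.neg_apply, Pi.zero_apply] at this
      linarith
  -- `u r ≤ 0` for `u = g wK g⁻¹`
  have h3 : rep cs h (g * wK * g⁻¹) r ≤ 0 := by
    have h4 : rep cs h (g * wK * g⁻¹) r = rep cs h g (rep cs h wK β) := by
      rw [rep_mul_apply, rep_mul_apply]
    have h5 := rep_longest_nonpos (h := h) hwK (x := β) ⟨hβK.1, hβ0, hβK.2⟩
    have h6 : 0 ≤ rep cs h g (-rep cs h wK β) := nonneg_of_posJ hgK (neg_nonneg.2 h5) fun k hk => by
      rw [Pi.neg_apply, (RootsJ.act hwK.1 hβK).2 k hk, neg_zero]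
    rw [map_neg] at h6
    rw [h4]
    exact neg_nonneg.1 h6
  -- but its coefficient at `s` is positive
  have h4 := h3 s
  rw [e, rep_mul_apply, rep_mul_apply, rep_apply_of_mem cs h ha _ (k := s) (fun hh => hh rfl), rep_simple_apply_self,
    rep_apply_of_mem cs h hb _ (k := s) (fun hh => hh rfl)] at h4
  have h5 : rep cs h b r = rep cs h (b * w1) (sr s) := by rw [hr, rep_mul_apply]
  have h6 : pairing A s (rep cs h b r) ≤ 1 := by
    rw [h5]
    apply pairing_le_one
    rw [← h5]
    intro h7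
    have h8 := congrFun h7 s
    rw [rep_apply_of_mem cs h hb _ (k := s) (fun hh => hh rfl), sr_self] at h8
    omega
  rw [Pi.zero_apply] at h4
  linarith

/-- vectors supported on `K` are moved by `g` to vectors without `α_s` if the `g α_k` have this property -/
theorem apply_zero_of {K : Set I} {g : W} {s : I} (hg : ∀ k ∈ K, rep cs h g (sr k) s = 0) {x : I → ℤ}
    (hK : ∀ k, k ∉ K → x k = 0) : rep cs h g x s = 0 := by
  have h1 : x = ∑ k, x k • sr k := by
    funext j
    rw [Finset.sum_apply, Finset.sum_eq_single j]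
    · rw [Pi.smul_apply, sr_self, smul_eq_mul, mul_one]
    · intro k _ hk
      rw [Pi.smul_apply, sr_ne hk.symm, smul_zero]
    · intro hh; exact absurd (Finset.mem_univ _) hh
  rw [h1, map_sum, Finset.sum_apply]
  refine Finset.sum_eq_zero fun k _ => ?_
  rw [map_smul, Pi.smul_apply]
  by_cases hk : k ∈ K
  · rw [hg k hk, smul_zero]
  · rw [hK k hk, zero_smul]

/-- **`K` conjugate into `I - s`.** -/
theorem false_of_zero [Finite W] {K J : Set I} {u0 : W} {s : I} (hs : s ∈ K) (hJ : ∀ i ∈ J, i ≠ s)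
    (H : OneCoset cs h K J u0) {g' : W} (h0 : ∀ k ∈ K, rep cs h g' (sr k) s = 0) : False := by
  obtain ⟨u', hu', hmin⟩ := exists_min cs g' K
  set g := g' * u' with hg
  have hgK : ∀ k ∈ K, 0 ≤ rep cs h g (sr k) := fun k hk => nonneg_of_min cs h hu' hmin hk
  obtain ⟨wK, hwK⟩ := exists_isLongest cs K
  obtain ⟨a, ha, b, hb, e⟩ := exists_of_oneCoset hs hJ H hgK (full_longest h hwK)
  have hK0 : ∀ x : I → ℤ, (∀ k, k ∉ K → x k = 0) → rep cs h g x s = 0 := by
    intro x hx
    rw [hg, rep_mul_apply]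
    refine apply_zero_of h0 fun k hk => ?_
    rw [rep_apply_of_mem cs h hu' x hk, hx k hk]
  -- `u` does not change the coefficient at `s`
  have h1 : ∀ z : I → ℤ, rep cs h (g * wK * g⁻¹) z s = z s := by
    intro z
    have h2 : rep cs h (g * wK * g⁻¹) z = rep cs h g (rep cs h wK (rep cs h g⁻¹ z) - rep cs h g⁻¹ z) + z := by
      rw [map_sub, rep_apply_inv, sub_add_cancel, rep_mul_apply, rep_mul_apply]
    rw [h2, Pi.add_apply, hK0 _ fun k hk => ?_, zero_add]
    rw [Pi.sub_apply, rep_apply_of_mem cs h hwK.1 _ hk, sub_self]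
  have h2 := h1 (rep cs h b⁻¹ (sr s))
  rw [e, rep_mul_apply, rep_mul_apply, rep_apply_inv, rep_simple_sr, map_neg, Pi.neg_apply,
    rep_apply_of_mem cs h ha _ (k := s) (fun hh => hh rfl), sr_self,
    rep_apply_of_mem cs h (inv_mem hb) _ (k := s) (fun hh => hh rfl), sr_self] at h2
  norm_num at h2

/-- **Two orthogonal nodes `s`, `k ∈ K`** which `g'` moves to roots with coefficient one at `s`. -/
theorem false_of_two [Finite W] {K J : Set I} {u0 : W} {s k : I} (hs : s ∈ K) (hk : k ∈ K) (hJ : ∀ i ∈ J, i ≠ s)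
    (H : OneCoset cs h K J u0) (hsk : A s k = 0) {w' : W} (hw' : rep cs h w' (sr s) = sr k) {g' : W}
    (h1 : rep cs h g' (sr s) s = 1) (h2 : rep cs h g' (sr k) s = 1) : False := by
  have : Fintype W := Fintype.ofFinite W
  obtain ⟨u', hu', hmin⟩ := exists_min cs g' K
  set g := g' * u' with hg
  have hgK : ∀ k ∈ K, 0 ≤ rep cs h g (sr k) := fun k hk => nonneg_of_min cs h hu' hmin hk
  obtain ⟨wK, hwK⟩ := exists_isLongest cs K
  obtain ⟨a, ha, b, hb, e⟩ := exists_of_oneCoset hs hJ H hgK (full_longest h hwK)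
  set u := g * wK * g⁻¹ with hu
  have hus : ∀ z : I → ℤ, rep cs h u z s = z s - pairing A s (rep cs h b z) := by
    intro z
    rw [e, rep_mul_apply, rep_mul_apply, rep_apply_of_mem cs h ha _ (k := s) (fun hh => hh rfl),
      rep_simple_apply_self, rep_apply_of_mem cs h hb _ (k := s) (fun hh => hh rfl)]
  have huu : u * u = 1 := by
    have := hwK.mul_self
    rw [hu]
    calc g * wK * g⁻¹ * (g * wK * g⁻¹) = g * (wK * wK) * g⁻¹ := by group
      _ = 1 := by rw [this]; group
  have hphi : ∀ z : I → ℤ, pairing A s (rep cs h b (rep cs h u z)) = -pairing A s (rep cs h b z) := by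
    intro z
    have h3 := hus (rep cs h u z)
    rw [← rep_mul_apply, huu, map_one, Module.End.one_apply, hus z] at h3
    linarith
  -- `γ`
  set γ := rep cs h b⁻¹ (sr s) with hγ
  have hbγ : rep cs h b γ = sr s := rep_apply_inv cs h b _
  have hγs : γ s = 1 := by
    rw [hγ, rep_apply_of_mem cs h (inv_mem hb) _ (k := s) (fun hh => hh rfl), sr_self]
  have hpair2 : pairing A s (sr s) = 2 := by
    rw [sr, pairing_single, mul_one, h.diag]
  have huγ : rep cs h u γ = -γ := by
    have h3 : rep cs h b (rep cs h u γ) = -sr s := by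
      by_contra hne
      have h4 : rep cs h (b * u * b⁻¹ * cs.simple s) (sr s) = -rep cs h b (rep cs h u γ) := by
        rw [rep_mul_apply, rep_simple_sr, map_neg, rep_mul_apply, rep_mul_apply, ← hγ]
      have h5 := pairing_le_one (cs := cs) (h := h) s (b * u * b⁻¹ * cs.simple s) (by
        rw [h4]
        intro h6
        apply hne
        rw [← h6, neg_neg])
      have h6 : pairing A s (-rep cs h b (rep cs h u γ)) = 2 := by
        have : -rep cs h b (rep cs h u γ) = (-1 : ℤ) • rep cs h b (rep cs h u γ) := by rw [neg_one_smul]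
        rw [this, pairing_smul, hphi γ, hbγ, hpair2]
        norm_num
      rw [h4, h6] at h5
      norm_num at h5
    have h4 : rep cs h u γ = rep cs h b⁻¹ (rep cs h b (rep cs h u γ)) := (rep_inv_apply cs h b _).symm
    rw [h4, h3, map_neg]
  set μ := rep cs h g⁻¹ γ with hμ
  have hμK : ∀ i, i ∉ K → μ i = 0 := by
    intro i hi
    have h3 : rep cs h wK μ = -μ := by
      have h4 : rep cs h wK μ = rep cs h g⁻¹ (rep cs h u γ) := by
        rw [hu, rep_mul_apply, rep_mul_apply, rep_inv_apply]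
      rw [h4, huγ, map_neg]
    have h4 := rep_apply_of_mem cs h hwK.1 μ hi
    rw [h3, Pi.neg_apply] at h4
    linarith
  -- the inequality
  have hineq : ∀ β : I → ℤ, IsRoot cs h β → (∀ i, i ∉ K → β i = 0) → 0 < rep cs h g β s →
      rep cs h g β s ≤ pairing A s (rep cs h b (rep cs h g β)) := by
    intro β hβ hβK hpos
    have hβ0 : 0 ≤ β := by
      rcases hβ.pos_or_neg with h3 | h3
      · exact h3
      · exfalso
        have h4 := nonneg_of_posJ hgK (neg_nonneg.2 h3) (fun i hi => by rw [Pi.neg_apply, hβK i hi, neg_zero]) s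
        rw [map_neg, Pi.neg_apply, Pi.zero_apply] at h4
        linarith
    have h3 := hus (rep cs h g β)
    have h4 : rep cs h u (rep cs h g β) = rep cs h g (rep cs h wK β) := by
      rw [hu, rep_mul_apply, rep_mul_apply, rep_inv_apply]
    have h5 := rep_longest_nonpos (h := h) hwK (x := β) ⟨hβ, hβ0, hβK⟩
    have h6 := nonneg_of_posJ hgK (neg_nonneg.2 h5) (fun i hi => by
      rw [Pi.neg_apply, rep_apply_of_mem cs h hwK.1 β hi, hβK i hi, neg_zero]) s
    rw [map_neg, Pi.neg_apply, Pi.zero_apply, ← h4, h3] at h6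
    linarith
  -- the two roots
  set γ1 := rep cs h g' (sr s) with hγ1
  set γ2 := rep cs h g' (sr k) with hγ2
  have hsr : ∀ j ∈ K, ∀ i, i ∉ K → (sr j : I → ℤ) i = 0 := fun j hj i hi => sr_ne fun hh => hi (hh ▸ hj)
  have hg1 : ∀ j ∈ K, ∀ i, i ∉ K → rep cs h g⁻¹ (rep cs h g' (sr j)) i = 0 := by
    intro j hj i hi
    have h3 : rep cs h g⁻¹ (rep cs h g' (sr j)) = rep cs h u'⁻¹ (sr j) := by
      rw [← rep_mul_apply, hg]
      congr 2
      group
    rw [h3, rep_apply_of_mem cs h (inv_mem hu') _ hi, hsr j hj i hi]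
  have hφ1 : 1 ≤ pairing A s (rep cs h b γ1) := by
    have h3 := hineq (rep cs h g⁻¹ γ1) ((isRoot_rt cs h g' s).act _) (hg1 s hs) (by rw [rep_apply_inv, h1]; norm_num)
    rwa [rep_apply_inv, h1] at h3
  have hφ2 : 1 ≤ pairing A s (rep cs h b γ2) := by
    have h3 := hineq (rep cs h g⁻¹ γ2) ((isRoot_rt cs h g' k).act _) (hg1 k hk) (by rw [rep_apply_inv, h2]; norm_num)
    rwa [rep_apply_inv, h2] at h3
  have hx1 : rep cs h b γ1 = rep cs h (b * g') (sr s) := by rw [hγ1, rep_mul_apply]
  have hx2 : rep cs h b γ2 = rep cs h (b * g' * w') (sr s) := by rw [hγ2, rep_mul_apply, rep_mul_apply, hw']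
  -- orthogonality
  have hform : form cs h (sr k) (sr s) = 0 := by
    have h3 := two_form cs h s (sr k)
    have h4 : pairing A s (sr k) = 0 := by rw [sr, pairing_single, mul_one, hsk]
    rw [h4, zero_mul] at h3
    linarith
  have horth : form cs h (rep cs h b γ2) (rep cs h b γ1) = 0 := by
    rw [hγ1, hγ2, form_rep, form_rep, hform]
  have hpos := form_pos cs h (sr_ne_zero s)
  have hne1 : rep cs h b γ1 ≠ sr s := by
    intro h3
    rw [h3] at horth
    have h4 := two_form cs h s (rep cs h b γ2)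
    rw [horth, mul_zero] at h4
    have h5 := mul_pos (show 0 < pairing A s (rep cs h b γ2) by omega) hpos
    linarith
  have hne2 : rep cs h b γ2 ≠ sr s := by
    intro h3
    rw [h3, form_comm] at horth
    have h4 := two_form cs h s (rep cs h b γ1)
    rw [horth, mul_zero] at h4
    have h5 := mul_pos (show 0 < pairing A s (rep cs h b γ1) by omega) hpos
    linarith
  have hp1 : pairing A s (rep cs h b γ1) = 1 := by
    have h3 := pairing_le_one (cs := cs) (h := h) s (b * g') (by rw [← hx1]; exact hne1)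
    rw [← hx1] at h3
    omega
  have hp2 : pairing A s (rep cs h b γ2) = 1 := by
    have h3 := pairing_le_one (cs := cs) (h := h) s (b * g' * w') (by rw [← hx2]; exact hne2)
    rw [← hx2] at h3
    omega
  -- the root `x1 + x2 - α_s`
  have hy : IsRoot cs h (rep cs h b γ1 - sr s) := by
    have h3 : rep cs h (cs.simple s) (rep cs h b γ1) = rep cs h b γ1 - sr s := by
      rw [rep_simple_eq, hp1, one_smul]
    rw [← h3]
    exact ((isRoot_rt cs h g' s).act _).act _
  have hx2r : IsRoot cs h (rep cs h b γ2) := (isRoot_rt cs h g' k).act _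
  have hff : form cs h (rep cs h b γ2) (rep cs h b γ2) = form cs h (sr s) (sr s) := by
    rw [hx2, form_rep]
  have hc : cpr cs h (rep cs h b γ1 - sr s) (rep cs h b γ2) = -1 := by
    apply cpr_eq_of_form cs h hx2r
    have h3 := two_form cs h s (rep cs h b γ2)
    rw [hp2, one_mul] at h3
    rw [form_sub_left, form_comm cs h (rep cs h b γ1), horth, hff, form_comm cs h (sr s)]
    linarith
  have hε : IsRoot cs h (rep cs h b (γ1 + γ2 - γ)) := by
    have h3 := isRoot_refl cs h hy hx2r
    rw [hc, neg_one_smul, sub_neg_eq_add] at h3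
    have h4 : rep cs h b (γ1 + γ2 - γ) = rep cs h b γ1 - sr s + rep cs h b γ2 := by
      rw [map_sub, map_add, hbγ]
      abel
    rw [h4]
    exact h3
  have hε' : IsRoot cs h (γ1 + γ2 - γ) := by
    have := hε.act b⁻¹
    rwa [rep_inv_apply] at this
  have h3 := hineq (rep cs h g⁻¹ (γ1 + γ2 - γ)) (hε'.act _) (fun i hi => by
    rw [map_sub, map_add, Pi.sub_apply, Pi.add_apply, hg1 s hs i hi, hg1 k hk i hi, ← hμ, hμK i hi]
    norm_num) (by
    rw [rep_apply_inv, Pi.sub_apply, Pi.add_apply, h1, h2, hγs]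
    norm_num)
  rw [rep_apply_inv, Pi.sub_apply, Pi.add_apply, h1, h2, hγs, map_sub, map_add, hbγ] at h3
  have h4 : pairing A s (rep cs h b γ1 + rep cs h b γ2 - sr s) = 0 := by
    have h5 : rep cs h b γ1 + rep cs h b γ2 - sr s = rep cs h b γ1 + rep cs h b γ2 + (-1 : ℤ) • sr s := by
      rw [neg_one_smul, sub_eq_add_neg]
    rw [h5, pairing_add, pairing_add, pairing_smul, hp1, hp2, hpair2]
    norm_num
  rw [h4] at h3
  norm_num at h3

end Cfsg.Agent.H307.RootMove
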