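import Mathlib
import Cfsg.Agent.Tits.Opp
import Cfsg.Agent.Tits.Gate

/-!
# Isometries of residues of finite buildings in characteristic `p` (0-Hecke operators)

`Δ : Bldg cs C`, all panels of types in `K` of cardinality `≡ 1 (mod p)`, `f` an isometry of the `K`-residue of `x0`
which fixes no proper residue. Then `f` moves chambers to every distance `w ∈ W_K` of full support
(`exists_delta_eq`).  The proof is a trace computation with the 0-Hecke operators `A w` over `ZMod p`.
-/

set_option autoImplicit false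
set_option linter.unusedSectionVars false

open CoxeterSystem List Cfsg.Agent.Tits.Core Cfsg.Agent.Tits.Exchange
open scoped Matrix

namespace Cfsg.Agent.H307.ZeroHecke

variable {I W : Type*} [Group W] {M : CoxeterMatrix I} {cs : CoxeterSystem M W} {C : Type*} (Δ : Bldg cs C)

local prefix:100 "s" => cs.simple
local prefix:100 "π" => cs.wordProd
local prefix:100 "ℓ" => cs.length

open Classical in
/-- adjacency operator of type `w` on the residue -/
noncomputable def A (p : ℕ) (K : Set I) (x0 : C) (w : W) : Matrix (Δ.Res K x0) (Δ.Res K x0) (ZMod p) :=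
  fun x y => if Δ.δ (x : C) (y : C) = w then 1 else 0

variable {p : ℕ} {K : Set I} {x0 : C}

theorem A_apply_pos {w : W} {x y : Δ.Res K x0} (h : Δ.δ (x : C) (y : C) = w) : A Δ p K x0 w x y = 1 := by
  unfold A; rw [if_pos h]

theorem A_apply_neg {w : W} {x y : Δ.Res K x0} (h : Δ.δ (x : C) (y : C) ≠ w) : A Δ p K x0 w x y = 0 := by
  unfold A; rw [if_neg h]

theorem A_transpose (w : W) : (A Δ p K x0 w)ᵀ = A Δ p K x0 w⁻¹ := by
  ext x y
  rw [Matrix.transpose_apply]
  by_cases h : Δ.δ (y : C) (x : C) = w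
  · rw [A_apply_pos Δ h, A_apply_pos Δ]
    rw [Δ.symm y x, h]
  · rw [A_apply_neg Δ h, A_apply_neg Δ]
    intro h'
    apply h
    rw [Δ.symm x y, h', inv_inv]

variable [Finite C]

noncomputable instance : Fintype (Δ.Res K x0) := Fintype.ofFinite _

open Classical in
theorem A_one : A Δ p K x0 1 = 1 := by
  ext x y
  rw [Matrix.one_apply]
  by_cases h : x = y
  · rw [if_pos h, A_apply_pos Δ]
    rw [Δ.eq_one, h]
  · rw [if_neg h, A_apply_neg Δ]
    intro h'
    exact h (Subtype.ext ((Δ.eq_one _ _).1 h'))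

theorem mem_res_of_step {i : I} (hi : i ∈ K) {y z : C} (hz : z ∈ Δ.Res K x0) (h : Δ.δ y z = cs.simple i) :
    y ∈ Δ.Res K x0 := by
  refine Δ.mem_Res_trans hz ?_
  rw [Δ.mem_Res]
  rw [Δ.δ_symm_simple h]
  exact simple_mem_WJ cs hi

/-- raising -/
theorem A_mul_of_lt {w : W} {i : I} (hi : i ∈ K) (hl : cs.length (w * cs.simple i) = cs.length w + 1) :
    A Δ p K x0 w * A Δ p K x0 (cs.simple i) = A Δ p K x0 (w * cs.simple i) := by
  ext x z
  rw [Matrix.mul_apply]
  by_cases h : Δ.δ (x : C) (z : C) = w * cs.simple i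
  · rw [A_apply_pos Δ h]
    obtain ⟨y, hy1, hy2⟩ := Δ.exists_between h (by rw [hl, cs.length_simple])
    have hy : y ∈ Δ.Res K x0 := mem_res_of_step Δ hi z.2 hy2
    rw [Finset.sum_eq_single (⟨y, hy⟩ : Δ.Res K x0)]
    · rw [A_apply_pos Δ hy1, A_apply_pos Δ hy2, mul_one]
    · intro y' _ hne
      by_cases h1 : Δ.δ (x : C) (y' : C) = w
      · by_cases h2 : Δ.δ (y' : C) (z : C) = cs.simple i
        · exfalso
          apply hne
          apply Subtype.ext
          exact Δ.between_unique (by rw [hl, cs.length_simple]) h1 h2 hy1 hy2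
        · rw [A_apply_neg Δ h2, mul_zero]
      · rw [A_apply_neg Δ h1, zero_mul]
    · intro h'
      exact absurd (Finset.mem_univ _) h'
  · rw [A_apply_neg Δ h]
    apply Finset.sum_eq_zero
    intro y _
    by_cases h1 : Δ.δ (x : C) (y : C) = w
    · by_cases h2 : Δ.δ (y : C) (z : C) = cs.simple i
      · exfalso
        apply h
        have := Δ.step_lt x y z i h2 (by rw [h1, hl]; omega)
        rw [this, h1]
      · rw [A_apply_neg Δ h2, mul_zero]
    · rw [A_apply_neg Δ h1, zero_mul]

/-- The panels of type `i` have cardinality `≡ 1 (mod p)`. -/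
def PanOne (Δ : Bldg cs C) (p : ℕ) (i : I) : Prop := ∀ x, p ∣ Nat.card {y // Δ.δ x y = cs.simple i}

open Classical in
theorem row_sum {i : I} (hi : i ∈ K) (hq : PanOne Δ p i) (x : Δ.Res K x0) :
    ∑ y, A Δ p K x0 (cs.simple i) x y = 0 := by
  have h1 : ∑ y, A Δ p K x0 (cs.simple i) x y =
      ((Finset.univ.filter (fun y : Δ.Res K x0 => Δ.δ (x : C) (y : C) = cs.simple i)).card : ZMod p) := by
    rw [Finset.card_filter]
    push_cast
    refine Finset.sum_congr rfl fun y _ => ?_
    unfold A
    split_ifs <;> rfl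
  rw [h1, ZMod.natCast_eq_zero_iff]
  have h2 : (Finset.univ.filter (fun y : Δ.Res K x0 => Δ.δ (x : C) (y : C) = cs.simple i)).card =
      Nat.card {y // Δ.δ (x : C) y = cs.simple i} := by
    rw [← Fintype.card_subtype, ← Nat.card_eq_fintype_card]
    refine Nat.card_congr ⟨fun y => ⟨y.1.1, y.2⟩, fun y => ⟨⟨y.1, ?_⟩, y.2⟩, fun _ => rfl, fun _ => rfl⟩
    exact mem_res_of_step Δ hi x.2 (Δ.δ_symm_simple y.2)
  rw [h2]
  exact hq x

open Classical in
/-- the quadratic relation modulo `p` -/
theorem A_simple_sq {i : I} (hi : i ∈ K) (hq : PanOne Δ p i) :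
    A Δ p K x0 (cs.simple i) * A Δ p K x0 (cs.simple i) = -A Δ p K x0 (cs.simple i) := by
  ext x z
  rw [Matrix.mul_apply, Matrix.neg_apply]
  have hone : cs.simple i ≠ 1 := fun h => by
    have := cs.length_simple i
    rw [h, cs.length_one] at this
    exact absurd this (by norm_num)
  by_cases hxz : x = z
  · subst hxz
    rw [A_apply_neg Δ (w := cs.simple i) (x := x) (y := x) (by rw [Δ.δ_self]; exact hone.symm), neg_zero,
      ← row_sum Δ hi hq x]
    refine Finset.sum_congr rfl fun y _ => ?_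
    by_cases h : Δ.δ (x : C) (y : C) = cs.simple i
    · rw [A_apply_pos Δ h, A_apply_pos Δ (Δ.δ_symm_simple h), mul_one]
    · rw [A_apply_neg Δ h, zero_mul]
  · have hne : (x : C) ≠ (z : C) := fun h => hxz (Subtype.ext h)
    by_cases h : Δ.δ (x : C) (z : C) = cs.simple i
    · rw [A_apply_pos Δ h]
      have h1 := row_sum Δ hi hq x
      rw [← Finset.add_sum_erase _ _ (Finset.mem_univ z), A_apply_pos Δ h] at h1
      have h2 : ∑ y ∈ Finset.univ.erase z, A Δ p K x0 (cs.simple i) x y = -1 := by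
        linear_combination h1
      rw [← h2, ← Finset.add_sum_erase _ _ (Finset.mem_univ z)]
      rw [A_apply_neg Δ (w := cs.simple i) (x := z) (y := z) (by rw [Δ.δ_self]; exact hone.symm), mul_zero, zero_add]
      refine Finset.sum_congr rfl fun y hy => ?_
      have hyz : y ≠ z := (Finset.mem_erase.1 hy).1
      by_cases h3 : Δ.δ (x : C) (y : C) = cs.simple i
      · rw [A_apply_pos Δ h3, one_mul]
        rw [A_apply_pos Δ]
        exact Δ.δ_eq_of_mem_Pan (Δ.mem_Pan_of_δ h3) (Δ.mem_Pan_of_δ h) fun e => hyz (Subtype.ext e)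
      · rw [A_apply_neg Δ h3, zero_mul]
    · rw [A_apply_neg Δ h, neg_zero]
      refine Finset.sum_eq_zero fun y _ => ?_
      by_cases h1 : Δ.δ (x : C) (y : C) = cs.simple i
      · by_cases h2 : Δ.δ (y : C) (z : C) = cs.simple i
        · exfalso
          have h3 : (z : C) ∈ Δ.Pan i x := Δ.mem_Pan_trans (Δ.mem_Pan_of_δ h1) (Δ.mem_Pan_of_δ h2)
          rcases h3 with h3 | h3
          · exact hne h3.symm
          · exact h h3
        · rw [A_apply_neg Δ h2, mul_zero]
      · rw [A_apply_neg Δ h1, zero_mul]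

/-- lowering -/
theorem A_mul_of_gt {w : W} {i : I} (hi : i ∈ K) (hq : PanOne Δ p i)
    (hl : cs.length (w * cs.simple i) < cs.length w) :
    A Δ p K x0 w * A Δ p K x0 (cs.simple i) = -A Δ p K x0 w := by
  have h1 : w * cs.simple i * cs.simple i = w := by rw [mul_assoc, cs.simple_mul_simple_self, mul_one]
  have h2 : cs.length (w * cs.simple i * cs.simple i) = cs.length (w * cs.simple i) + 1 := by
    rw [h1]
    rcases cs.length_mul_simple w i with h | h
    · omega
    · exact h.symm
  have h3 := A_mul_of_lt Δ (p := p) (K := K) (x0 := x0) hi h2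
  rw [h1] at h3
  rw [← h3, Matrix.mul_assoc, A_simple_sq Δ hi hq, Matrix.mul_neg]

/-- the operator of a word -/
noncomputable def P (p : ℕ) (K : Set I) (x0 : C) (ω : List I) : Matrix (Δ.Res K x0) (Δ.Res K x0) (ZMod p) := by
  classical
  exact (ω.map fun i => A Δ p K x0 (cs.simple i)).prod

open Classical in
theorem P_nil : P Δ p K x0 [] = 1 := rfl

open Classical in
theorem P_cons (i : I) (ω : List I) : P Δ p K x0 (i :: ω) = A Δ p K x0 (cs.simple i) * P Δ p K x0 ω := by
  unfold P
  rw [List.map_cons, List.prod_cons]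

open Classical in
theorem P_append (ω ω' : List I) : P Δ p K x0 (ω ++ ω') = P Δ p K x0 ω * P Δ p K x0 ω' := by
  unfold P
  rw [List.map_append, List.prod_append]

variable (hq : ∀ i ∈ K, PanOne Δ p i)

include hq

/-- multiplication by one letter -/
theorem step_letter {w : W} {i : I} (hi : i ∈ K) : ∃ a : ℕ, ∃ w' : W,
    A Δ p K x0 w * A Δ p K x0 (cs.simple i) = (-1 : ZMod p) ^ a • A Δ p K x0 w' ∧ cs.length w ≤ cs.length w' ∧
      (w ∈ WJ cs K → w' ∈ WJ cs K) ∧
      (cs.length w' ≤ cs.length w → w' = w ∧ cs.length (w * cs.simple i) < cs.length w) := by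
  rcases cs.length_mul_simple w i with h | h
  · refine ⟨0, w * cs.simple i, ?_, by omega, fun hw => mul_mem hw (simple_mem_WJ cs hi), fun h' => by omega⟩
    rw [A_mul_of_lt Δ hi h, pow_zero, one_smul]
  · refine ⟨1, w, ?_, le_rfl, fun hw => hw, fun _ => ⟨rfl, by omega⟩⟩
    rw [A_mul_of_gt Δ hi (hq i hi) (by omega), pow_one, neg_smul, one_smul]

/-- multiplication by a word -/
theorem step_word (ω : List I) (hω : ∀ i ∈ ω, i ∈ K) : ∀ w : W, ∃ a : ℕ, ∃ w' : W,
    A Δ p K x0 w * P Δ p K x0 ω = (-1 : ZMod p) ^ a • A Δ p K x0 w' ∧ cs.length w ≤ cs.length w' ∧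
      (w ∈ WJ cs K → w' ∈ WJ cs K) ∧
      (cs.length w' ≤ cs.length w → w' = w ∧ ∀ i ∈ ω, cs.length (w * cs.simple i) < cs.length w) := by
  classical
  induction ω with
  | nil =>
    intro w
    exact ⟨0, w, by rw [P_nil, mul_one, pow_zero, one_smul], le_rfl, fun hw => hw, fun _ => ⟨rfl, fun i hi =>
      absurd hi (List.not_mem_nil)⟩⟩
  | cons i ω ih =>
    intro w
    obtain ⟨a, w1, e1, l1, m1, d1⟩ := step_letter Δ hq (x0 := x0) (w := w) (hω i (List.mem_cons_self))
    obtain ⟨b, w2, e2, l2, m2, d2⟩ := ih (fun j hj => hω j (List.mem_cons_of_mem _ hj)) w1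
    refine ⟨a + b, w2, ?_, l1.trans l2, fun hw => m2 (m1 hw), fun h => ?_⟩
    · rw [P_cons, ← mul_assoc, e1, smul_mul_assoc, e2, smul_smul, ← pow_add]
    · obtain ⟨h3, h4⟩ := d1 (l2.trans h)
      obtain ⟨h5, h6⟩ := d2 (h.trans l1)
      subst h5
      subst h3
      refine ⟨rfl, fun j hj => ?_⟩
      rcases List.mem_cons.1 hj with rfl | hj
      · exact h4
      · exact h6 j hj

omit hq in
/-- an element of `W_K` all of whose letters in `K` are right descents is the longest one -/
theorem eq_longest {w w1 : W} (hw1 : IsLongest cs K w1) (hw : w ∈ WJ cs K)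
    (hd : ∀ i ∈ K, cs.length (w * cs.simple i) < cs.length w) : w = w1 := by
  have hz : w1 * w ∈ WJ cs K := mul_mem hw1.1 hw
  obtain ⟨ω, hω, hred, e⟩ := exists_reduced_of_mem_WJ cs hz
  have hw' : w = w1 * (w1 * w) := by rw [← mul_assoc, hw1.mul_self, one_mul]
  rcases List.eq_nil_or_concat ω with rfl | ⟨ω', i, rfl⟩
  · rw [cs.wordProd_nil] at e
    rw [hw', ← e, mul_one]
  · exfalso
    have hi : i ∈ K := hω i (by simp)
    have h1 := hd i hi
    have h2 : cs.length (w1 * w * cs.simple i) < cs.length (w1 * w) := by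
      rw [← e, List.concat_eq_append, cs.wordProd_append, cs.wordProd_singleton, mul_assoc,
        cs.simple_mul_simple_self, mul_one]
      have h3 : cs.length (cs.wordProd (ω' ++ [i])) = (ω' ++ [i]).length := by
        have := hred
        rw [List.concat_eq_append] at this
        exact this
      have h4 := cs.length_wordProd_le ω'
      rw [cs.wordProd_append, cs.wordProd_singleton] at h3
      rw [h3, List.length_append, List.length_singleton]
      omega
    have h5 := (hw1.2 (w1 * w) hz).1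
    have h6 := (hw1.2 (w1 * w * cs.simple i) (mul_mem hz (simple_mem_WJ cs hi))).1
    have h7 : w1 * (w1 * w * cs.simple i) = w * cs.simple i := by
      rw [← mul_assoc, ← mul_assoc, hw1.mul_self, one_mul]
    rw [h7] at h6
    rw [← hw'] at h5
    omega

/-- powers of the operator of a word of full support -/
theorem pow_word {ω : List I} (hω : ∀ i ∈ ω, i ∈ K) (hfull : ∀ i ∈ K, i ∈ ω) {w1 : W} (hw1 : IsLongest cs K w1) :
    ∀ k : ℕ, ∃ a : ℕ, ∃ w' : W, by
      classical exact P Δ p K x0 ω ^ k = (-1 : ZMod p) ^ a • A Δ p K x0 w' ∧ w' ∈ WJ cs K ∧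
        (k ≤ cs.length w' ∨ w' = w1) := by
  classical
  intro k
  induction k with
  | zero => exact ⟨0, 1, by rw [pow_zero, pow_zero, one_smul, A_one], one_mem _, Or.inl (Nat.zero_le _)⟩
  | succ k ih =>
    obtain ⟨a, w, e, hw, hk⟩ := ih
    obtain ⟨b, w', e', hl, hm, hd⟩ := step_word Δ hq (x0 := x0) ω hω w
    refine ⟨a + b, w', ?_, hm hw, ?_⟩
    · rw [pow_succ, e, smul_mul_assoc, e', smul_smul, ← pow_add]
    · by_cases hlt : cs.length w < cs.length w'
      · rcases hk with hk | hk
        · left; omega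
        · exfalso
          subst hk
          have := hw1.length_le (hm hw)
          omega
      · obtain ⟨h1, h2⟩ := hd (by omega)
        right
        rw [h1]
        exact eq_longest hw1 hw fun i hi => h2 i (hfull i hi)

/-- multiplication of the longest element by words -/
theorem longest_mul {w1 : W} (hw1 : IsLongest cs K w1) (ω : List I) (hω : ∀ i ∈ ω, i ∈ K) :
    A Δ p K x0 w1 * P Δ p K x0 ω = (-1 : ZMod p) ^ ω.length • A Δ p K x0 w1 := by
  classical
  induction ω with
  | nil => rw [P_nil, mul_one, List.length_nil, pow_zero, one_smul]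
  | cons i ω ih =>
    have hi := hω i List.mem_cons_self
    have h1 : cs.length (w1 * cs.simple i) < cs.length w1 := by
      have := (hw1.2 (cs.simple i) (simple_mem_WJ cs hi)).1
      rw [cs.length_simple] at this
      omega
    rw [P_cons, ← mul_assoc, A_mul_of_gt Δ hi (hq i hi) h1, neg_mul, ih fun j hj => hω j (List.mem_cons_of_mem _ hj),
      List.length_cons, pow_succ, mul_neg, mul_one, neg_smul]

omit hq in
theorem P_transpose (ω : List I) : (P Δ p K x0 ω)ᵀ = P Δ p K x0 ω.reverse := by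
  classical
  induction ω with
  | nil => rw [P_nil, List.reverse_nil, P_nil, Matrix.transpose_one]
  | cons i ω ih =>
    rw [P_cons, Matrix.transpose_mul, ih, A_transpose, cs.inv_simple, List.reverse_cons, P_append, P_cons, P_nil,
      mul_one]

theorem mul_longest {w1 : W} (hw1 : IsLongest cs K w1) (ω : List I) (hω : ∀ i ∈ ω, i ∈ K) :
    P Δ p K x0 ω * A Δ p K x0 w1 = (-1 : ZMod p) ^ ω.length • A Δ p K x0 w1 := by
  have h1 := longest_mul Δ hq (x0 := x0) hw1 ω.reverse fun i hi => hω i (List.mem_reverse.1 hi)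
  have h2 := congrArg Matrix.transpose h1
  rwa [Matrix.transpose_mul, P_transpose, List.reverse_reverse, A_transpose, hw1.inv_eq, Matrix.transpose_smul,
    A_transpose, hw1.inv_eq, List.length_reverse] at h2

omit hq in
/-- the operator of a reduced word -/
theorem P_eq_A (ω : List I) (hω : ∀ i ∈ ω, i ∈ K) (hr : cs.IsReduced ω) : P Δ p K x0 ω = A Δ p K x0 (cs.wordProd ω) := by
  classical
  induction ω using List.reverseRecOn with
  | nil => rw [P_nil, cs.wordProd_nil, A_one]
  | append_singleton ω i ih =>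
    have hr' : cs.IsReduced ω := by
      have := hr.take ω.length
      rwa [List.take_left'] at this
      rfl
    have h1 : cs.length (cs.wordProd ω * cs.simple i) = cs.length (cs.wordProd ω) + 1 := by
      have h2 : cs.length (cs.wordProd (ω ++ [i])) = (ω ++ [i]).length := hr
      have h3 : cs.length (cs.wordProd ω) = ω.length := hr'
      rw [cs.wordProd_append, cs.wordProd_singleton, List.length_append, List.length_singleton] at h2
      rw [h2, h3]
    rw [P_append, P_cons, P_nil, mul_one, ih (fun j hj => hω j (List.mem_append_left _ hj)) hr',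
      A_mul_of_lt Δ (hω i (by simp)) h1, cs.wordProd_append, cs.wordProd_singleton]

open Classical in
/-- the sign of the row sums -/
theorem row_sum_one [Finite W] {w : W} (hw : w ∈ WJ cs K) (h1 : w ≠ 1) (x : Δ.Res K x0) :
    ∑ y, A Δ p K x0 w x y = 0 := by
  obtain ⟨ω, hω, hr, rfl⟩ := exists_reduced_of_mem_WJ cs hw
  rcases List.eq_nil_or_concat ω with rfl | ⟨ω', i, rfl⟩
  · exact absurd cs.wordProd_nil h1
  · rw [List.concat_eq_append] at hω hr ⊢
    have hi : i ∈ K := hω i (by simp)
    rw [← P_eq_A Δ _ hω hr, P_append, P_cons, P_nil, mul_one]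
    simp only [Matrix.mul_apply]
    rw [Finset.sum_comm]
    refine Finset.sum_eq_zero fun y _ => ?_
    rw [← Finset.mul_sum, row_sum Δ hi (hq i hi), mul_zero]

/-! ### The trace -/

section Trace

omit hq

open Classical in
/-- the permutation matrix of `f` -/
noncomputable def F (p : ℕ) (f : Equiv.Perm (Δ.Res K x0)) : Matrix (Δ.Res K x0) (Δ.Res K x0) (ZMod p) :=
  fun x y => if f x = y then 1 else 0

variable (f : Equiv.Perm (Δ.Res K x0))

theorem F_mul (B : Matrix (Δ.Res K x0) (Δ.Res K x0) (ZMod p)) (x z : Δ.Res K x0) :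
    (F Δ p f * B) x z = B (f x) z := by
  classical
  rw [Matrix.mul_apply, Finset.sum_eq_single (f x)]
  · unfold F; rw [if_pos rfl, one_mul]
  · intro y _ hy
    unfold F; rw [if_neg fun h => hy h.symm, zero_mul]
  · intro h; exact absurd (Finset.mem_univ _) h

theorem mul_F (B : Matrix (Δ.Res K x0) (Δ.Res K x0) (ZMod p)) (x z : Δ.Res K x0) :
    (B * F Δ p f) x z = B x (f.symm z) := by
  classical
  rw [Matrix.mul_apply, Finset.sum_eq_single (f.symm z)]
  · unfold F; rw [if_pos (f.apply_symm_apply z), mul_one]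
  · intro y _ hy
    unfold F; rw [if_neg fun h => hy (by rw [← h, f.symm_apply_apply]), mul_zero]
  · intro h; exact absurd (Finset.mem_univ _) h

variable {f} (hf : ∀ x y : Δ.Res K x0, Δ.δ (f x : C) (f y : C) = Δ.δ (x : C) (y : C))

include hf

theorem F_comm_A (w : W) : F Δ p f * A Δ p K x0 w = A Δ p K x0 w * F Δ p f := by
  ext x z
  rw [F_mul, mul_F]
  have h1 : Δ.δ (f x : C) (z : C) = Δ.δ (x : C) (f.symm z : C) := by
    conv_lhs => rw [← f.apply_symm_apply z]
    exact hf _ _
  unfold A
  rw [h1]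

theorem F_comm_P (ω : List I) : F Δ p f * P Δ p K x0 ω = P Δ p K x0 ω * F Δ p f := by
  classical
  induction ω with
  | nil => rw [P_nil, mul_one, one_mul]
  | cons i ω ih => rw [P_cons, ← mul_assoc, F_comm_A Δ hf, mul_assoc, ih, mul_assoc]

omit hf in
theorem trace_F_A (w : W) : (F Δ p f * A Δ p K x0 w).trace = ∑ x, A Δ p K x0 w (f x) x := by
  rw [Matrix.trace]
  refine Finset.sum_congr rfl fun x _ => ?_
  rw [Matrix.diag_apply, F_mul]

include hq in
/-- **the trace formula** -/
theorem trace_word [Fact p.Prime] {ω : List I} (hω : ∀ i ∈ ω, i ∈ K) (hfull : ∀ i ∈ K, i ∈ ω) {w1 : W}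
    (hw1 : IsLongest cs K w1) : ∃ a : ℕ,
      (F Δ p f * P Δ p K x0 ω).trace = (-1 : ZMod p) ^ a * (F Δ p f * A Δ p K x0 w1).trace := by
  classical
  set N := cs.length w1 with hN
  set L := A Δ p K x0 w1 with hL
  set Q := P Δ p K x0 ω with hQ
  set E : Matrix (Δ.Res K x0) (Δ.Res K x0) (ZMod p) := (-1 : ZMod p) ^ N • L with hE
  have hsq : ∀ n : ℕ, (-1 : ZMod p) ^ n * (-1 : ZMod p) ^ n = 1 := fun n => by
    rw [← mul_pow, neg_one_mul, neg_neg, one_pow]
  -- `L * L = (-1)^N L`
  obtain ⟨ω1, hω1, hr1, e1⟩ := exists_reduced_of_mem_WJ cs hw1.1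
  have hlen : ω1.length = N := by
    have : cs.length (cs.wordProd ω1) = ω1.length := hr1
    rw [← this, e1]
  have hLL : L * L = (-1 : ZMod p) ^ N • L := by
    have h1 := longest_mul Δ hq (x0 := x0) hw1 ω1 hω1
    rw [P_eq_A Δ ω1 hω1 hr1, e1, hlen] at h1
    exact h1
  have hLE : L * E = L := by
    rw [hE, mul_smul_comm, hLL, smul_smul, hsq, one_smul]
  have hEE : E * E = E := by
    conv_lhs => lhs; rw [hE]
    rw [smul_mul_assoc, hLE]
  have hQL : Q * L = (-1 : ZMod p) ^ ω.length • L := mul_longest Δ hq hw1 ω hω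
  have hLQ : L * Q = (-1 : ZMod p) ^ ω.length • L := longest_mul Δ hq hw1 ω hω
  have hcomm : Commute Q (1 - E) := by
    have : Commute Q E := by
      rw [hE]
      exact (show Commute Q L from hQL.trans hLQ.symm).smul_right _
    exact (Commute.one_right Q).sub_right this
  -- nilpotency
  have hnil : IsNilpotent (Q * (1 - E)) := by
    obtain ⟨a, w', h1, h2, h3⟩ := pow_word Δ hq (x0 := x0) hω hfull hw1 (N + 1)
    have h4 : w' = w1 := by
      rcases h3 with h3 | h3
      · have := hw1.length_le h2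
        omega
      · exact h3
    subst h4
    refine ⟨N + 1, ?_⟩
    rw [hcomm.mul_pow]
    have h5 : (1 - E) ^ (N + 1) = 1 - E := by
      have h6 : IsIdempotentElem (1 - E) := (show IsIdempotentElem E from hEE).one_sub
      exact h6.pow_succ_eq N
    rw [h5]
    have h7 : Q ^ (N + 1) = (-1 : ZMod p) ^ a • L := h1
    rw [h7, smul_mul_assoc, mul_sub, mul_one, hLE, sub_self, smul_zero]
  have hFcomm : Commute (F Δ p f) (Q * (1 - E)) := by
    have h1 : Commute (F Δ p f) Q := F_comm_P Δ hf ω
    have h2 : Commute (F Δ p f) E := by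
      rw [hE]
      exact (show Commute (F Δ p f) L from F_comm_A Δ hf w1).smul_right _
    exact h1.mul_right ((Commute.one_right _).sub_right h2)
  have h0 : (F Δ p f * (Q * (1 - E))).trace = 0 := by
    have h1 : IsNilpotent (F Δ p f * (Q * (1 - E))) := hFcomm.isNilpotent_mul_left hnil
    exact (Matrix.isNilpotent_trace_of_isNilpotent h1).eq_zero
  refine ⟨ω.length + N, ?_⟩
  have h1 : F Δ p f * Q = F Δ p f * (Q * (1 - E)) + (-1 : ZMod p) ^ (ω.length + N) • (F Δ p f * L) := by
    have h2 : Q * E = (-1 : ZMod p) ^ (ω.length + N) • L := by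
      rw [hE, mul_smul_comm, hQL, smul_smul, ← pow_add, add_comm]
    rw [mul_sub, mul_one, mul_sub, ← mul_smul_comm, ← h2]
    abel
  rw [h1, Matrix.trace_add, h0, zero_add, Matrix.trace_smul, smul_eq_mul]

include hq in
/-- **Chambers are moved to every distance of full support.** -/
theorem exists_delta_eq [Finite W] [Fact p.Prime]
    (hell : ∀ x : Δ.Res K x0, ∀ K' ⊆ K, K' ≠ K → Δ.δ (x : C) (f x : C) ∉ WJ cs K') {w : W} (hw : w ∈ WJ cs K)
    (hfull : ∀ K' ⊆ K, K' ≠ K → w ∉ WJ cs K') : ∃ x : Δ.Res K x0, Δ.δ (x : C) (f x : C) = w := by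
  classical
  have : Fintype W := Fintype.ofFinite W
  obtain ⟨w1, hw1⟩ := exists_isLongest cs K
  -- the trace for elements of full support
  have key : ∀ v ∈ WJ cs K, (∀ K' ⊆ K, K' ≠ K → v ∉ WJ cs K') → ∃ a : ℕ,
      (F Δ p f * A Δ p K x0 v).trace = (-1 : ZMod p) ^ a * (F Δ p f * A Δ p K x0 w1).trace := by
    intro v hv hvf
    obtain ⟨ω, hω, hr, rfl⟩ := exists_reduced_of_mem_WJ cs hv
    rw [← P_eq_A Δ ω hω hr]
    refine trace_word Δ hq hf hω (fun i hi => ?_) hw1
    by_contra hni
    refine hvf (K \ {i}) Set.sdiff_subset (fun h => ?_) (wordProd_mem_WJ cs fun j hj => ⟨hω j hj, ?_⟩)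
    · have : i ∈ K \ {i} := by rw [h]; exact hi
      exact this.2 rfl
    · rintro rfl
      exact hni hj
  -- the trace for the others
  have hzero : ∀ v, (v ∉ WJ cs K ∨ ∃ K' ⊆ K, K' ≠ K ∧ v ∈ WJ cs K') → (F Δ p f * A Δ p K x0 v).trace = 0 := by
    intro v hv
    rw [trace_F_A]
    refine Finset.sum_eq_zero fun x _ => ?_
    refine A_apply_neg Δ fun h => ?_
    rcases hv with hv | ⟨K', h1, h2, h3⟩
    · apply hv
      rw [← h]
      exact Δ.δ_mem_of_mem_Res (f x).2 x.2
    · refine hell x K' h1 h2 ?_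
      rw [Δ.symm (f x) x, h]
      exact inv_mem h3
  -- the sum of all traces is one
  have hsum : ∑ v : W, (F Δ p f * A Δ p K x0 v).trace = 1 := by
    have h1 : ∑ v : W, (F Δ p f * A Δ p K x0 v).trace = ∑ x : Δ.Res K x0, (1 : ZMod p) := by
      simp only [trace_F_A]
      rw [Finset.sum_comm]
      refine Finset.sum_congr rfl fun x _ => ?_
      rw [Finset.sum_eq_single (Δ.δ (f x : C) (x : C))]
      · exact A_apply_pos Δ rfl
      · intro v _ hv
        exact A_apply_neg Δ fun h => hv h.symm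
      · intro h; exact absurd (Finset.mem_univ _) h
    have h2 : ∑ v : W, ∑ y, A Δ p K x0 v (⟨x0, Δ.self_mem_Res K x0⟩ : Δ.Res K x0) y =
        ∑ x : Δ.Res K x0, (1 : ZMod p) := by
      rw [Finset.sum_comm]
      refine Finset.sum_congr rfl fun y _ => ?_
      rw [Finset.sum_eq_single (Δ.δ x0 (y : C))]
      · exact A_apply_pos Δ rfl
      · intro v _ hv
        exact A_apply_neg Δ fun h => hv h.symm
      · intro h; exact absurd (Finset.mem_univ _) h
    rw [h1, ← h2, Finset.sum_eq_single (1 : W)]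
    · rw [A_one]
      simp [Matrix.one_apply]
    · intro v _ hv
      by_cases hvK : v ∈ WJ cs K
      · exact row_sum_one Δ hq hvK hv _
      · refine Finset.sum_eq_zero fun y _ => ?_
        refine A_apply_neg Δ fun h => hvK ?_
        rw [← h]
        exact y.2
    · intro h; exact absurd (Finset.mem_univ _) h
  have hne : (F Δ p f * A Δ p K x0 w1).trace ≠ 0 := by
    intro h0
    apply one_ne_zero (α := ZMod p)
    rw [← hsum]
    refine Finset.sum_eq_zero fun v _ => ?_
    by_cases hv : v ∈ WJ cs K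
    · by_cases hvf : ∀ K' ⊆ K, K' ≠ K → v ∉ WJ cs K'
      · obtain ⟨a, ha⟩ := key v hv hvf
        rw [ha, h0, mul_zero]
      · push Not at hvf
        exact hzero v (Or.inr hvf)
    · exact hzero v (Or.inl hv)
  obtain ⟨a, ha⟩ := key w⁻¹ (inv_mem hw) fun K' h1 h2 h3 => hfull K' h1 h2 (by simpa using inv_mem h3)
  have h1 : (F Δ p f * A Δ p K x0 w⁻¹).trace ≠ 0 := by
    rw [ha]
    exact mul_ne_zero (pow_ne_zero _ (neg_ne_zero.2 one_ne_zero)) hne
  rw [trace_F_A] at h1
  obtain ⟨x, _, hx⟩ := Finset.exists_ne_zero_of_sum_ne_zero h1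
  refine ⟨x, ?_⟩
  by_contra hne'
  apply hx
  refine A_apply_neg Δ fun h => hne' ?_
  rw [Δ.symm (f x) x, h, inv_inv]

end Trace

end Cfsg.Agent.H307.ZeroHecke
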