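import Mathlib
import Cfsg.Agent.H307.ZeroHecke
import Cfsg.Agent.H307.RootMove
import Cfsg.Agent.H167.SteinbergRGD
import Cfsg.Agent.Nodes.LeviDec

/-!
# Elements of order prime to `p` in groups with a root group datum of characteristic `p`

`exists_move`: `y` of prime order `q ≠ p`. There is a set `K` of nodes such that the class of `y` meets the cell
`B (g w g⁻¹) B` for all `w ∈ W_K` of full support and all `g` with `g α_k > 0` (`k ∈ K`).
-/

set_option autoImplicit false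
set_option linter.unusedSectionVars false

namespace Cfsg.Agent.H307.RgdMove

open CoxeterSystem Cfsg.Agent.ChevalleyStructure.CoxeterGeom Cfsg.Agent.Tits.Roots Cfsg.Agent.Tits.Core
  Cfsg.Agent.Tits.Exchange Cfsg.Agent.Nodes.Reps Cfsg.Agent.Nodes.BNOf Cfsg.Agent.Nodes.StabComb
  Cfsg.Agent.Nodes.Bruhat Cfsg.Agent.Nodes.OppDec Cfsg.Agent.Nodes.LeviDec Cfsg.Agent.H307.RootMove

variable {I W Y : Type*} [Fintype I] [DecidableEq I] [Group W] [Group Y] {M : CoxeterMatrix I}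
  {cs : CoxeterSystem M W} {A : I → I → ℤ} {h : IsCartan M A} {p : ℕ} {T : Subgroup Y} {n : I → Y}
  {X : (I → ℤ) → Subgroup Y}

/-- In `P = L V`, `V` a normal `p`-group, elements of prime order `q ≠ p` are conjugate into `L`. -/
theorem exists_conj_mem {G : Type*} [Group G] [Finite G] {p q : ℕ} [hp : Fact p.Prime] (hq : q.Prime) (hqp : q ≠ p)
    (P L V : Subgroup G) (hV : V ≤ P) (hPV : ∀ g ∈ P, ∃ l ∈ L, ∃ v ∈ V, g = l * v)
    (hVp : IsPGroup p V) {y : G} (hy : y ∈ P) (ho : orderOf y = q) : ∃ m ∈ P, m⁻¹ * y * m ∈ L := by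
  classical
  have : Fact q.Prime := ⟨hq⟩
  set L' := L.subgroupOf P with hL'
  set y' : P := ⟨y, hy⟩ with hy'
  set V' := V.subgroupOf P with hV'
  -- `V'` is transitive on the cosets of `L'`
  have htr : MulAction.IsPretransitive V' (P ⧸ L') := by
    refine ⟨fun a b => ?_⟩
    have key : ∀ c : P ⧸ L', ∃ v : V', v • (QuotientGroup.mk 1 : P ⧸ L') = c := by
      intro c
      obtain ⟨g, rfl⟩ := QuotientGroup.mk_surjective c
      obtain ⟨l, hl, v, hv, e⟩ := hPV _ (g⁻¹).2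
      refine ⟨⟨⟨v⁻¹, hV (inv_mem hv)⟩, Subgroup.mem_subgroupOf.2 (inv_mem hv)⟩, ?_⟩
      change (QuotientGroup.mk ((⟨v⁻¹, hV (inv_mem hv)⟩ : P) * 1) : P ⧸ L') = _
      rw [QuotientGroup.eq]
      rw [hL', Subgroup.mem_subgroupOf]
      have h1 : ((((⟨v⁻¹, hV (inv_mem hv)⟩ : P) * 1)⁻¹ * g : P) : G) = v * g := by
        simp
      rw [h1]
      have h2 : (g : G) = v⁻¹ * l⁻¹ := by
        have : ((g⁻¹ : P) : G) = l * v := e
        rw [Subgroup.coe_inv] at this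
        rw [← inv_inv (g : G), this, mul_inv_rev]
      rw [h2, mul_inv_cancel_left]
      exact inv_mem hl
    obtain ⟨v, rfl⟩ := key a
    obtain ⟨v', rfl⟩ := key b
    exact ⟨v' * v⁻¹, by rw [mul_smul, inv_smul_smul]⟩
  have hdvd : Nat.card (P ⧸ L') ∣ Nat.card V' := by
    rw [← MulAction.index_stabilizer_of_transitive V' (QuotientGroup.mk 1 : P ⧸ L')]
    exact Subgroup.index_dvd_card _
  have hV'p : IsPGroup p V' := hVp.of_equiv (Subgroup.subgroupOfEquivOfLe hV).symm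
  obtain ⟨a, ha⟩ := IsPGroup.iff_card.1 hV'p
  have hnd : ¬ q ∣ Nat.card (P ⧸ L') := by
    intro h1
    have h2 := h1.trans hdvd
    rw [ha] at h2
    exact hqp ((Nat.prime_dvd_prime_iff_eq hq hp.out).1 (hq.dvd_of_dvd_pow h2))
  have hyq : IsPGroup q (Subgroup.zpowers y') := by
    refine IsPGroup.of_card (n := 1) ?_
    rw [Nat.card_zpowers, pow_one, ← ho]
    exact Subgroup.orderOf_mk y hy
  obtain ⟨c, hc⟩ := hyq.nonempty_fixed_point_of_prime_not_dvd_card (P ⧸ L') hnd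
  obtain ⟨m, rfl⟩ := QuotientGroup.mk_surjective c
  have h1 := hc ⟨y', Subgroup.mem_zpowers y'⟩
  change (QuotientGroup.mk (y' * m) : P ⧸ L') = QuotientGroup.mk m at h1
  rw [eq_comm, QuotientGroup.eq] at h1
  refine ⟨m, m.2, ?_⟩
  rw [hL', Subgroup.mem_subgroupOf] at h1
  have h2 : ((m⁻¹ * (y' * m) : P) : G) = (m : G)⁻¹ * y * m := by
    simp [hy', mul_assoc]
  rwa [h2] at h1

variable (R : RGD cs h p T n X)

include R

/-- The panels of a root group datum have cardinality `≡ 1 (mod p)`. -/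
theorem panOne [Finite W] [Finite Y] [Fact p.Prime] (Δ : Bldg cs (Y ⧸ RGD.B cs h T X))
    (hiso : ∀ (g : Y) (x y : Y ⧸ RGD.B cs h T X), Δ.δ (g • x) (g • y) = Δ.δ x y)
    (hδ : ∀ (a b k : Y) (w : W), Rp cs R.nsys w k → (Δ.δ (QuotientGroup.mk a) (QuotientGroup.mk b) = w ↔
        ∃ b₁ ∈ RGD.B cs h T X, ∃ b₂ ∈ RGD.B cs h T X, a⁻¹ * b = b₁ * k * b₂)) (i : I) :
    ZeroHecke.PanOne Δ p i := by
  intro x
  obtain ⟨g, rfl⟩ := QuotientGroup.mk_surjective x
  -- translate to the standard chamber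
  have h1 : Nat.card {y // Δ.δ (QuotientGroup.mk g) y = cs.simple i} =
      Nat.card {y // Δ.δ (QuotientGroup.mk 1) y = cs.simple i} := by
    refine Nat.card_congr ⟨fun y => ⟨g⁻¹ • y.1, ?_⟩, fun y => ⟨g • y.1, ?_⟩, fun y => ?_, fun y => ?_⟩
    · have h2 := hiso g⁻¹ (QuotientGroup.mk g) y.1
      have h3 : g⁻¹ • (QuotientGroup.mk g : Y ⧸ RGD.B cs h T X) = QuotientGroup.mk 1 := by
        change (QuotientGroup.mk (g⁻¹ * g) : Y ⧸ RGD.B cs h T X) = _
        rw [inv_mul_cancel]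
      rw [y.2, h3] at h2
      exact h2
    · have h2 := hiso g (QuotientGroup.mk 1) y.1
      have h3 : g • (QuotientGroup.mk 1 : Y ⧸ RGD.B cs h T X) = QuotientGroup.mk g := by
        change (QuotientGroup.mk (g * 1) : Y ⧸ RGD.B cs h T X) = _
        rw [mul_one]
      rw [y.2, h3] at h2
      exact h2
    · apply Subtype.ext
      exact smul_inv_smul g y.1
    · apply Subtype.ext
      exact inv_smul_smul g y.1
  rw [h1]
  set U := RGD.Sup X (RGD.Pos cs h) with hU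
  have hUp : IsPGroup p U := R.isPGroup_Upos
  have hfix : ∀ u : U, (u : Y) • (QuotientGroup.mk 1 : Y ⧸ RGD.B cs h T X) = QuotientGroup.mk 1 := by
    intro u
    change (QuotientGroup.mk ((u : Y) * 1) : Y ⧸ RGD.B cs h T X) = _
    rw [mul_one, eq_comm, QuotientGroup.eq, inv_one, one_mul]
    exact RGD.U_le_B u.2
  let : MulAction U {y // Δ.δ (QuotientGroup.mk 1) y = cs.simple i} :=
    { smul := fun u y => ⟨(u : Y) • y.1, by
        have h2 := hiso (u : Y) (QuotientGroup.mk 1) y.1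
        rw [hfix u, y.2] at h2
        exact h2⟩
      one_smul := fun y => Subtype.ext (one_smul Y y.1)
      mul_smul := fun u v y => Subtype.ext (mul_smul (u : Y) (v : Y) y.1) }
  have h2 := hUp.card_modEq_card_fixedPoints {y // Δ.δ (QuotientGroup.mk 1) y = cs.simple i}
  have h3 : IsEmpty (MulAction.fixedPoints U {y // Δ.δ (QuotientGroup.mk 1) y = cs.simple i}) := by
    refine ⟨fun y => ?_⟩
    obtain ⟨⟨y, hy⟩, hyf⟩ := y
    obtain ⟨g, rfl⟩ := QuotientGroup.mk_surjective y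
    obtain ⟨b1, hb1, b2, hb2, e⟩ := (hδ 1 g (n i) (cs.simple i) (rp_simple cs R.nsys i)).1 hy
    rw [inv_one, one_mul] at e
    apply R.not_neg_le_B i
    intro v hv
    -- `v = n_i⁻¹ u n_i` with `u ∈ X α_i`
    have h4 : n i * v * (n i)⁻¹ ∈ X (sr i) := by
      have h5 := R.conj_mem (rp_simple cs R.nsys i) (isRoot_sr cs h i).neg hv
      rwa [map_neg, rep_simple_sr, neg_neg] at h5
    have h5 : b1 * (n i * v * (n i)⁻¹) * b1⁻¹ ∈ U :=
      (Subgroup.mem_normalizer_iff.1 (R.B_le_normalizer_U hb1) _).1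
        (RGD.le_Sup (⟨isRoot_sr cs h i, sr_nonneg i⟩ : sr i ∈ RGD.Pos cs h) h4)
    have h6 := congrArg Subtype.val (hyf ⟨_, h5⟩)
    change (QuotientGroup.mk ((b1 * (n i * v * (n i)⁻¹) * b1⁻¹) * g) : Y ⧸ RGD.B cs h T X) = QuotientGroup.mk g at h6
    rw [eq_comm, QuotientGroup.eq, e] at h6
    have h7 : (b1 * n i * b2)⁻¹ * (b1 * (n i * v * (n i)⁻¹) * b1⁻¹ * (b1 * n i * b2)) = b2⁻¹ * v * b2 := by group
    rw [h7] at h6
    have h8 : v = b2 * (b2⁻¹ * v * b2) * b2⁻¹ := by group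
    rw [h8]
    exact mul_mem (mul_mem hb2 h6) (inv_mem hb2)
  have h4 : Nat.card (MulAction.fixedPoints U {y // Δ.δ (QuotientGroup.mk 1) y = cs.simple i}) = 0 :=
    Nat.card_of_isEmpty
  rw [h4] at h2
  exact (Nat.modEq_zero_iff_dvd).1 h2

/-- **The class of `y` meets many cells.** -/
theorem exists_move [Finite W] [Finite Y] [hp : Fact p.Prime] (hG : RGD.Sup X {x | IsRoot cs h x} = ⊤) {q : ℕ}
    (hq : q.Prime) (hqp : q ≠ p) {y : Y} (hy : orderOf y = q) :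
    ∃ K : Set I, ∀ g : W, (∀ k ∈ K, 0 ≤ rep cs h g (sr k)) → ∀ w, Full cs K w →
      ∃ z : Y, Cell R.nsys cs h X (g * w * g⁻¹) (z⁻¹ * y * z) := by
  classical
  have hGG : GG cs h T X = ⊤ := by
    rw [eq_top_iff, ← hG]
    exact RGD.Sup_le fun x hx => X_le_GG hx
  -- the smallest parabolic containing a conjugate of `y`
  let S : Set (Set I) := {K | ∃ z : Y, z⁻¹ * y * z ∈ PJ cs h T X K}
  have hS : S.Nonempty := by
    refine ⟨Set.univ, 1, ?_⟩
    have h1 : PJ cs h T X Set.univ = ⊤ := by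
      rw [eq_top_iff, ← hGG, ← LJ_univ]
      exact LJ_le_PJ
    rw [h1]
    trivial
  obtain ⟨K, ⟨z0, hz0⟩, hmin⟩ := WellFounded.has_min (wellFounded_lt : WellFounded ((· < ·) : Set I → Set I → Prop)) S hS
  have ho0 : orderOf (z0⁻¹ * y * z0) = q := by
    rw [← hy]
    have : z0⁻¹ * y * z0 = MulAut.conj z0⁻¹ y := by rw [MulAut.conj_apply, inv_inv]
    rw [this]
    exact MulEquiv.orderOf_eq (MulAut.conj z0⁻¹) y
  obtain ⟨m, hm, hmL⟩ := exists_conj_mem hq hqp (PJ cs h T X K) (LJ cs h T X K) (VJ cs h X K) VJ_le_PJ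
    (fun g hg => (mem_PJ R).1 hg) (R.isPGroup_Upos.to_le (VJ_le_U K)) hz0 ho0
  set y1 := m⁻¹ * (z0⁻¹ * y * z0) * m with hy1
  have hy1z : y1 = (z0 * m)⁻¹ * y * (z0 * m) := by rw [hy1]; group
  have hell : ∀ l : Y, ∀ K' ⊆ K, K' ≠ K → l⁻¹ * y1 * l ∉ PJ cs h T X K' := by
    intro l K' h1 h2 h3
    refine hmin K' ⟨z0 * m * l, ?_⟩ (lt_of_le_of_ne h1 h2)
    have : (z0 * m * l)⁻¹ * y * (z0 * m * l) = l⁻¹ * y1 * l := by rw [hy1z]; group
    rw [this]
    exact h3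
  refine ⟨K, fun g hg w hw => ?_⟩
  -- the building
  have hgen := Cfsg.Agent.Nodes.RGDLib.rgd_gen_of_G1 R hG
  obtain ⟨Δ, hiso, -, hδ⟩ := Cfsg.Agent.H167.SteinbergRGD.exists_bldg R hgen
  have hcell : ∀ (a b : Y) (v : W), Δ.δ (QuotientGroup.mk a) (QuotientGroup.mk b) = v ↔
      Cell R.nsys cs h X v (a⁻¹ * b) := by
    intro a b v
    constructor
    · intro h1
      obtain ⟨k, hk⟩ := exists_rp cs R.nsys v
      obtain ⟨b1, hb1, b2, hb2, e⟩ := (hδ a b k v hk).1 h1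
      exact ⟨b1, hb1, k, hk, b2, hb2, e⟩
    · rintro ⟨b1, hb1, k, hk, b2, hb2, e⟩
      exact (hδ a b k v hk).2 ⟨b1, hb1, b2, hb2, e⟩
  set x0 : Y ⧸ RGD.B cs h T X := QuotientGroup.mk 1 with hx0
  have hy1P : y1 ∈ PJ cs h T X K := LJ_le_PJ hmL
  -- `z ∈ P_K` acts on the residue
  have hres : ∀ a : Y, (QuotientGroup.mk a : Y ⧸ RGD.B cs h T X) ∈ Δ.Res K x0 ↔ a ∈ PJ cs h T X K := by
    intro a
    rw [Δ.mem_Res, mem_PJ_iff_cell R]
    constructor
    · intro h1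
      refine ⟨_, h1, ?_⟩
      have := (hcell 1 a _).1 rfl
      rwa [inv_one, one_mul] at this
    · rintro ⟨v, hv, h1⟩
      have h2 := (hcell 1 a v).2 (by rwa [inv_one, one_mul])
      rw [h2]
      exact hv
  have hsm : ∀ a ∈ PJ cs h T X K, ∀ x : Y ⧸ RGD.B cs h T X, x ∈ Δ.Res K x0 → a • x ∈ Δ.Res K x0 := by
    intro a ha x hx
    obtain ⟨b, rfl⟩ := QuotientGroup.mk_surjective x
    exact (hres _).2 (mul_mem ha ((hres b).1 hx))
  let f : Equiv.Perm (Δ.Res K x0) :=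
    { toFun := fun x => ⟨y1 • x.1, hsm y1 hy1P _ x.2⟩
      invFun := fun x => ⟨y1⁻¹ • x.1, hsm y1⁻¹ (inv_mem hy1P) _ x.2⟩
      left_inv := fun x => Subtype.ext (inv_smul_smul y1 x.1)
      right_inv := fun x => Subtype.ext (smul_inv_smul y1 x.1) }
  have hf : ∀ x : Δ.Res K x0, (f x : Y ⧸ RGD.B cs h T X) = y1 • (x : Y ⧸ RGD.B cs h T X) := fun x => rfl
  -- representatives of chambers in `L_K`
  have hrep : ∀ x : Δ.Res K x0, ∃ l ∈ LJ cs h T X K, (x : Y ⧸ RGD.B cs h T X) = QuotientGroup.mk l := by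
    rintro ⟨x, hx⟩
    obtain ⟨b, rfl⟩ := QuotientGroup.mk_surjective x
    obtain ⟨l, hl, v, hv, e⟩ := (mem_PJ R).1 ((hres b).1 hx)
    refine ⟨l, hl, ?_⟩
    change (QuotientGroup.mk b : Y ⧸ RGD.B cs h T X) = QuotientGroup.mk l
    rw [eq_comm, QuotientGroup.eq, e, inv_mul_cancel_left]
    exact VJ_le_B K hv
  obtain ⟨x, hx⟩ := ZeroHecke.exists_delta_eq Δ (p := p) (K := K) (x0 := x0)
    (fun i _ => panOne R Δ hiso hδ i) (f := f) (fun a b => by rw [hf, hf, hiso]) (fun x K' h1 h2 h3 => by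
      obtain ⟨l, hl, e⟩ := hrep x
      rw [hf, e] at h3
      apply hell l K' h1 h2
      rw [mem_PJ_iff_cell R]
      refine ⟨_, h3, ?_⟩
      have h4 := (hcell l (y1 * l) _).1 rfl
      rwa [← mul_assoc] at h4) hw.1 hw.2
  obtain ⟨l, hl, e⟩ := hrep x
  rw [hf, e] at hx
  have h4 : Cell R.nsys cs h X w (l⁻¹ * y1 * l) := by
    have := (hcell l (y1 * l) _).1 hx
    rwa [← mul_assoc] at this
  -- the same cell in `L_K`
  have h5 : l⁻¹ * y1 * l ∈ LJ cs h T X K := mul_mem (mul_mem (inv_mem hl) hmL) hl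
  obtain ⟨w', hw', hc'⟩ := exists_cellJ R h5
  have h6 : w' = w := Cell.unique R hc'.cell h4
  subst h6
  obtain ⟨b1, hb1, k, hk, b2, hb2, e2⟩ := hc'
  obtain ⟨kg, hkg⟩ := exists_rp cs R.nsys g
  -- `k_g B_K k_g⁻¹ ≤ B`
  have hBJ : ∀ b ∈ BJ cs h T X K, kg * b * kg⁻¹ ∈ RGD.B cs h T X := by
    have h7 : BJ cs h T X K ≤ cj kg⁻¹ (RGD.B cs h T X) := by
      refine sup_le ?_ ?_
      · intro t ht
        rw [mem_cj, inv_inv]
        have h8 := hkg.mem_normalizer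
        exact RGD.T_le_B ((Subgroup.mem_normalizer_iff.1 h8 t).1 ht)
      · intro t ht
        rw [mem_cj, inv_inv]
        refine RGD.U_le_B (conj_mem_Sup R hkg (S := PosJ cs h K) (fun x hx => hx.1) (fun x hx => ?_) ht)
        exact ⟨hx.1.act g, nonneg_of_posJ hg hx.2.1 hx.2.2⟩
    intro b hb
    have h8 := h7 hb
    rwa [mem_cj, inv_inv] at h8
  refine ⟨z0 * m * l * kg⁻¹, kg * b1 * kg⁻¹, hBJ b1 hb1, kg * k * kg⁻¹, ?_, kg * b2 * kg⁻¹, hBJ b2 hb2, ?_⟩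
  · exact (hkg.mul hk).mul hkg.inv
  · have h9 : (z0 * m * l * kg⁻¹)⁻¹ * y * (z0 * m * l * kg⁻¹) = kg * (l⁻¹ * y1 * l) * kg⁻¹ := by
      rw [hy1z]; group
    rw [h9, e2]
    group

end Cfsg.Agent.H307.RgdMove
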