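import Mathlib
import Cfsg.Agent.H307.RgdMove
import Cfsg.Agent.H410.TwoTransRGD
import Cfsg.Agent.H530.Cop

/-!
# No coprime class sizes in simple groups with a root group datum

`NodeOK cs h s` : the combinatorial property of the node `s` (`RootMove.false_of_good`, `false_of_zero`,
`false_of_two`); `noCop_of_rgd`: if all the nodes have it there are no non-trivial classes of coprime sizes.
-/

set_option autoImplicit false
set_option linter.unusedSectionVars false

namespace Cfsg.Agent.H307.RgdNoCop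

open CoxeterSystem Cfsg.Agent.ChevalleyStructure.CoxeterGeom Cfsg.Agent.Tits.Roots Cfsg.Agent.Tits.Core
  Cfsg.Agent.Tits.Exchange Cfsg.Agent.Nodes.Reps Cfsg.Agent.Nodes.BNOf Cfsg.Agent.Nodes.StabComb
  Cfsg.Agent.Nodes.Bruhat Cfsg.Agent.Nodes.OppDec Cfsg.Agent.Nodes.LeviDec Cfsg.Agent.H307.RootMove
  Cfsg.Agent.H307.RgdMove Cfsg.Agent.H410.TwoTransRGD Cfsg.Agent.H530.Cop Cfsg.Agent.Tits.RootComb

variable {I W Y : Type*} [Fintype I] [DecidableEq I] [Group W] [Group Y] {M : CoxeterMatrix I}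
  {cs : CoxeterSystem M W} {A : I → I → ℤ} {h : IsCartan M A} {p : ℕ} {T : Subgroup Y} {n : I → Y}
  {X : (I → ℤ) → Subgroup Y}

/-- The combinatorial property of the node `s`. -/
def NodeOK (cs : CoxeterSystem M W) (h : IsCartan M A) (s : I) : Prop :=
  ∀ (K J : Set I) (u0 : W), s ∈ K → (∀ i ∈ J, i ≠ s) → ¬ OneCoset cs h K J u0

theorem simple_not_mem (h : IsCartan M A) (s : I) : cs.simple s ∉ WJ cs {i | i ≠ s} := by
  intro h1
  have h2 := rep_apply_of_mem cs h h1 (sr s) (k := s) (fun hh => hh rfl)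
  rw [rep_simple_sr, Pi.neg_apply, sr_self] at h2
  norm_num at h2

/-- **No coprime class sizes.** -/
theorem noCop_of_rgd [Finite W] [Finite Y] [IsSimpleGroup Y] [hp : Fact p.Prime] (hna : ¬ IsMulCommutative Y)
    (R : RGD cs h p T n X) (hG : RGD.Sup X {x | IsRoot cs h x} = ⊤) (hok : ∀ s, NodeOK cs h s) : NoCop Y := by
  have hGG : GG cs h T X = ⊤ := GG_eq_top_of_gen R hG
  refine noCop_of_char hna hp.out (RGD.Sup X (RGD.Pos cs h)) R.isPGroup_Upos ?_
  intro x y hx hy hxy hco hpx hU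
  have hx1 : x ≠ 1 := by
    rintro rfl
    rw [orderOf_one] at hx
    exact Nat.not_prime_one hx
  have hy1 : y ≠ 1 := by
    rintro rfl
    rw [orderOf_one] at hy
    exact Nat.not_prime_one hy
  -- `y` is not a `p`-element
  have hyp : orderOf y ≠ p := by
    intro h1
    have h2 : IsPGroup p (Subgroup.zpowers y) := by
      refine IsPGroup.of_card (n := 1) ?_
      rw [Nat.card_zpowers, pow_one, h1]
    obtain ⟨g, hg⟩ := exists_conj_le hp.out hpx h2
    refine not_comm hna hx1 hy1 hco g 1 ?_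
    rw [one_mul, inv_one, mul_one]
    exact (hg y (Subgroup.mem_zpowers y)).symm
  -- the centralizer of `x`
  set H : Subgroup Y := Subgroup.centralizer {x} with hH
  have hUH : RGD.Sup X (RGD.Pos cs h) ≤ H := fun u hu => mem_cent.2 (hU u hu)
  have hHt : H ≠ ⊤ := cent_ne_top hna hx1
  obtain ⟨s, hs⟩ := exists_not_mem R hG hUH hHt
  set J := JH X H with hJ
  have hJs : ∀ i ∈ J, i ≠ s := by
    rintro i hi rfl
    exact hs hi
  obtain ⟨u0, hu0⟩ := (mem_GG R).1 (show y ∈ GG cs h T X by rw [hGG]; trivial)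
  -- all conjugates of `y` lie in one double coset
  have hcl : ∀ z : Y, ∃ a ∈ WJ cs J, ∃ b ∈ WJ cs J, Cell R.nsys cs h X (a * u0 * b) (z⁻¹ * y * z) := by
    intro z
    obtain ⟨c, hc, e⟩ := exists_conj hco z
    set a := c⁻¹ * z with ha
    have haH : a ∈ H := by
      rw [hH, mem_cent, ha]
      calc c⁻¹ * z * x = c⁻¹ * (z * x * z⁻¹) * z := by group
        _ = x * (c⁻¹ * z) := by rw [e]; group
    have h1 : z⁻¹ * y * z = a⁻¹ * y * a := by
      have h2 : c⁻¹ * y * c = y := by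
        rw [mul_assoc, ← hc]
        group
      calc z⁻¹ * y * z = a⁻¹ * (c⁻¹ * y * c) * a := by rw [ha]; group
        _ = a⁻¹ * y * a := by rw [h2]
    obtain ⟨v, hv⟩ := (mem_GG R).1 (show a ∈ GG cs h T X by rw [hGG]; trivial)
    have hvJ : v ∈ WJ cs J := cell_mem R hUH hv haH
    obtain ⟨v1, hv1, hc1⟩ := mul_cell R (inv_mem hvJ) hv.inv hu0
    obtain ⟨v2, hv2, hc2⟩ := mul_cell R (inv_mem hvJ) hv.inv hc1.inv
    refine ⟨v1, hv1, v2⁻¹, inv_mem hv2, ?_⟩
    have h3 := hc2.inv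
    rw [h1]
    have h4 : (a⁻¹ * (a⁻¹ * y)⁻¹)⁻¹ = a⁻¹ * y * a := by group
    have h5 : (v2 * (v1 * u0)⁻¹)⁻¹ = v1 * u0 * v2⁻¹ := by group
    rwa [h4, h5] at h3
  obtain ⟨K, hK⟩ := exists_move R hG hy hyp rfl
  have hOne : OneCoset cs h K J u0 := by
    intro g hg w hw
    obtain ⟨z, hz⟩ := hK g hg w hw
    obtain ⟨a, ha, b, hb, hc⟩ := hcl z
    exact ⟨a, ha, b, hb, Cell.unique R hz hc⟩
  by_cases hsK : s ∈ K
  · exact hok s K J u0 hsK hJs hOne
  · -- all conjugates of `y` lie in the parabolic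
    obtain ⟨wK, hwK⟩ := exists_isLongest cs K
    obtain ⟨a, ha, b, hb, e⟩ := hOne 1 (fun k _ => by rw [map_one]; exact sr_nonneg k) wK (full_longest h hwK)
    have hJ' : WJ cs J ≤ WJ cs {i | i ≠ s} := WJ_mono cs hJs
    have hu0' : u0 ∈ WJ cs {i | i ≠ s} := by
      have h1 : u0 = a⁻¹ * wK * b⁻¹ := by
        have h2 : wK = a * u0 * b := by rw [← e]; group
        rw [h2]; group
      rw [h1]
      refine mul_mem (mul_mem (inv_mem (hJ' ha)) (WJ_mono cs (fun i hi => ?_) hwK.1)) (inv_mem (hJ' hb))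
      rintro rfl
      exact hsK hi
    have htop : PJ cs h T X {i | i ≠ s} = ⊤ := by
      refine eq_top_of_conj hy1 fun g => ?_
      obtain ⟨a, ha, b, hb, hc⟩ := hcl g⁻¹
      rw [inv_inv] at hc
      exact (mem_PJ_iff_cell R).2 ⟨_, mul_mem (mul_mem (hJ' ha) hu0') (hJ' hb), hc⟩
    refine simple_not_mem (cs := cs) h s ((cell_mem_PJ_iff R (cell_of_rp (rp_simple cs R.nsys s))).1 ?_)
    rw [htop]
    trivial

end Cfsg.Agent.H307.RgdNoCop
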