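import Mathlib
import Cfsg.Agent.H307.RgdNoCop

/-!
# The nodes of the exceptional Weyl groups

`NodeOK cs h s` for all nodes `s` of the types `E₆`, `E₇`, `E₈`, `F₄`, `G₂`, any Cartan matrix.
-/

set_option autoImplicit false
set_option linter.unusedSectionVars false

namespace Cfsg.Agent.H307.NodeTypes

open CoxeterSystem Cfsg.Agent.ChevalleyStructure.CoxeterGeom Cfsg.Agent.Tits.Roots Cfsg.Agent.Tits.Core
  Cfsg.Agent.H307.RootMove Cfsg.Agent.H307.RgdNoCop

/-- a reflection on lists -/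
def stepL (rows : List (List ℤ)) (i : ℕ) (L : List ℤ) : List ℤ :=
  L.set i (L.getD i 0 - ((rows.getD i []).zipWith (· * ·) L).sum)

/-- the vector of a list -/
def toF (l : ℕ) (L : List ℤ) : Fin l → ℤ := fun k => L.getD k 0

/-- a word of reflections -/
def runL {l : ℕ} (rows : List (List ℤ)) (ω : List (Fin l)) (L : List ℤ) : List ℤ :=
  ω.foldr (fun i L => stepL rows i L) L

/-- a unit vector -/
def unitL (l : ℕ) (s : ℕ) : List ℤ := (List.range l).map fun k => if k = s then 1 else 0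

theorem length_stepL (rows : List (List ℤ)) (i : ℕ) (L : List ℤ) : (stepL rows i L).length = L.length := by
  unfold stepL
  rw [List.length_set]

theorem length_runL {l : ℕ} (rows : List (List ℤ)) (ω : List (Fin l)) (L : List ℤ) :
    (runL rows ω L).length = L.length := by
  induction ω with
  | nil => rfl
  | cons i ω ih =>
    change (stepL rows i (runL rows ω L)).length = _
    rw [length_stepL, ih]

theorem length_unitL (l s : ℕ) : (unitL l s).length = l := by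
  unfold unitL
  rw [List.length_map, List.length_range]

theorem toF_unitL {l : ℕ} (s : Fin l) : toF l (unitL l s) = sr s := by
  funext k
  unfold toF unitL sr
  rw [List.getD_eq_getElem?_getD, List.getElem?_map, List.getElem?_range k.2]
  simp only [Option.map_some, Option.getD_some, Pi.single_apply, Fin.ext_iff]

variable {l : ℕ} {W : Type*} [Group W] {M : CoxeterMatrix (Fin l)} {cs : CoxeterSystem M W}
  {A : Fin l → Fin l → ℤ} {h : IsCartan M A}

/-- the rows are the rows of `A` -/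
def RowsOf (l : ℕ) (A : Fin l → Fin l → ℤ) (rows : List (List ℤ)) : Prop :=
  (∀ i k : Fin l, A i k = (rows.getD i []).getD k 0) ∧ ∀ i : Fin l, (rows.getD i []).length = l

theorem pairing_toF {rows : List (List ℤ)} (hr : RowsOf l A rows) {L : List ℤ} (hL : L.length = l) (i : Fin l) :
    pairing A i (toF l L) = ((rows.getD i []).zipWith (· * ·) L).sum := by
  have h1 : (rows.getD i []).zipWith (· * ·) L = List.ofFn fun k : Fin l => A i k * toF l L k := by
    apply List.ext_getElem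
    · rw [List.length_zipWith, hr.2 i, hL, List.length_ofFn, min_self]
    · intro k h1 h2
      rw [List.length_ofFn] at h2
      rw [List.getElem_zipWith, List.getElem_ofFn, hr.1 i ⟨k, h2⟩]
      have h3 : k < (rows.getD i []).length := by rw [hr.2 i]; exact h2
      have h4 : k < L.length := by rw [hL]; exact h2
      unfold toF
      rw [List.getD_eq_getElem _ _ h3, List.getD_eq_getElem _ _ h4]
  rw [h1, List.sum_ofFn]
  rfl

theorem refl_toF {rows : List (List ℤ)} (hr : RowsOf l A rows) {L : List ℤ} (hL : L.length = l) (i : Fin l) :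
    refl A i (toF l L) = toF l (stepL rows i L) := by
  rw [refl_apply, pairing_toF hr hL]
  funext k
  rw [Pi.sub_apply, Pi.single_apply]
  unfold stepL toF
  have hk : (k : ℕ) < L.length := by rw [hL]; exact k.2
  have hset : ∀ (j : ℕ) (x : ℤ), (L.set j x).getD k 0 = if j = k then x else L.getD k 0 := by
    intro j x
    rw [List.getD_eq_getElem (L.set j x) _ (by rw [List.length_set]; exact hk), List.getElem_set,
      List.getD_eq_getElem L _ hk]
  rw [hset]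
  by_cases hki : k = i
  · subst hki
    rw [if_pos rfl, if_pos rfl]
  · rw [if_neg hki, sub_zero, if_neg]
    intro h1
    exact hki (Fin.ext h1.symm)

theorem rep_word {rows : List (List ℤ)} (hr : RowsOf l A rows) {L : List ℤ} (hL : L.length = l)
    (ω : List (Fin l)) : rep cs h (cs.wordProd ω) (toF l L) = toF l (runL rows ω L) := by
  induction ω with
  | nil => rw [cs.wordProd_nil, map_one, Module.End.one_apply]; rfl
  | cons i ω ih =>
    rw [cs.wordProd_cons, rep_mul_apply, ih, rep_simple, refl_toF hr (by rw [length_runL, hL])]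
    rfl

theorem rep_word_sr {rows : List (List ℤ)} (hr : RowsOf l A rows) (ω : List (Fin l)) (s k : Fin l) :
    rep cs h (cs.wordProd ω) (sr s) k = (runL rows ω (unitL l s)).getD k 0 := by
  rw [← toF_unitL, rep_word hr (length_unitL l s)]
  rfl

/-- good nodes -/
theorem nodeOK_of_word [Finite W] {rows : List (List ℤ)} (hr : RowsOf l A rows) {s : Fin l} (ω : List (Fin l))
    (h2 : 2 ≤ (runL rows ω (unitL l s)).getD s 0) : NodeOK cs h s := by
  intro K J u0 hs hJ H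
  refine false_of_good hs hJ H (w1 := cs.wordProd ω) ?_
  rw [rep_word_sr hr]
  exact h2

/-- Data for a minuscule node `s` with neighbour `t`: the word `z` moves `s`, `t` out of `s`; `w k` moves `α_s` to `α_k`,
`g k` moves `α_s`, `α_k` to roots with coefficient one at `s`. -/
def chkMin (l : ℕ) (rows : List (List ℤ)) (s t : Fin l) (z : List (Fin l)) (w g : List (List (Fin l))) : Bool :=
  ((runL rows z (unitL l s)).getD s 0 == 0) && ((runL rows z (unitL l t)).getD s 0 == 0) &&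
  (List.finRange l).all fun k => (k == s) || (k == t) ||
    (((rows.getD s []).getD k 0 == 0) &&
      (runL rows (w.getD k []) (unitL l s) == unitL l k) &&
      ((runL rows (g.getD k []) (unitL l s)).getD s 0 == 1) &&
      ((runL rows (g.getD k []) (unitL l k)).getD s 0 == 1))

/-- minuscule nodes -/
theorem nodeOK_of_chkMin [Finite W] {rows : List (List ℤ)} (hr : RowsOf l A rows) {s t : Fin l} {z : List (Fin l)}
    {w g : List (List (Fin l))} (hc : chkMin l rows s t z w g = true) : NodeOK cs h s := by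
  intro K J u0 hs hJ H
  unfold chkMin at hc
  rw [Bool.and_eq_true, Bool.and_eq_true, List.all_eq_true] at hc
  obtain ⟨⟨h1, h2⟩, h3⟩ := hc
  by_cases hK : ∃ k ∈ K, k ≠ s ∧ k ≠ t
  · obtain ⟨k, hk, hks, hkt⟩ := hK
    have h4 := h3 k (List.mem_finRange k)
    simp only [Bool.or_eq_true, Bool.and_eq_true, beq_iff_eq] at h4
    rcases h4 with (h4 | h4) | ⟨⟨⟨h4, h5⟩, h6⟩, h7⟩
    · exact hks h4
    · exact hkt h4
    · refine false_of_two hs hk hJ H (by rw [hr.1 s k]; exact h4) (w' := cs.wordProd (w.getD k [])) ?_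
        (g' := cs.wordProd (g.getD k [])) ?_ ?_
      · rw [← toF_unitL, rep_word hr (length_unitL l s), h5, toF_unitL]
      · rw [rep_word_sr hr]; exact h6
      · rw [rep_word_sr hr]; exact h7
  · push Not at hK
    refine false_of_zero hs hJ H (g' := cs.wordProd z) fun k hk => ?_
    rw [rep_word_sr hr]
    by_cases hks : k = s
    · subst hks
      simpa using h1
    · have hkt := hK k hk hks
      subst hkt
      simpa using h2

/-- simply laced Cartan matrices -/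
theorem cartan_sl (h : IsCartan M A)
    (hM' : ∀ i j, (decide (i = j) || decide (M i j = 2) || decide (M i j = 3)) = true) (i j : Fin l) :
    A i j = if i = j then 2 else if M i j = 3 then -1 else 0 := by
  have hM : ∀ i j, i ≠ j → M i j = 2 ∨ M i j = 3 := by
    intro i j hij
    have h1 := hM' i j
    simp only [Bool.or_eq_true, decide_eq_true_eq] at h1
    rcases h1 with (h1 | h1) | h1
    · exact absurd h1 hij
    · exact Or.inl h1
    · exact Or.inr h1
  by_cases hij : i = j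
  · subst hij
    rw [if_pos rfl, h.diag]
  · rw [if_neg hij]
    rcases h.rel i j hij with ⟨hm, hp, -⟩ | ⟨hm, hp, -⟩ | ⟨hm, -⟩ | ⟨hm, -⟩
    · rw [hm, hp]; rfl
    · rw [hm, hp]; rfl
    · rcases hM i j hij with h1 | h1 <;> rw [hm] at h1 <;> norm_num at h1
    · rcases hM i j hij with h1 | h1 <;> rw [hm] at h1 <;> norm_num at h1

/-! ### The tables -/

def rows6 : List (List ℤ) := [[2, 0, -1, 0, 0, 0], [0, 2, 0, -1, 0, 0], [-1, 0, 2, -1, 0, 0], [0, -1, -1, 2, -1, 0],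
  [0, 0, 0, -1, 2, -1], [0, 0, 0, 0, -1, 2]]

def rows7 : List (List ℤ) := [[2, 0, -1, 0, 0, 0, 0], [0, 2, 0, -1, 0, 0, 0], [-1, 0, 2, -1, 0, 0, 0],
  [0, -1, -1, 2, -1, 0, 0], [0, 0, 0, -1, 2, -1, 0], [0, 0, 0, 0, -1, 2, -1], [0, 0, 0, 0, 0, -1, 2]]

def rows8 : List (List ℤ) := [[2, 0, -1, 0, 0, 0, 0, 0], [0, 2, 0, -1, 0, 0, 0, 0], [-1, 0, 2, -1, 0, 0, 0, 0],
  [0, -1, -1, 2, -1, 0, 0, 0], [0, 0, 0, -1, 2, -1, 0, 0], [0, 0, 0, 0, -1, 2, -1, 0], [0, 0, 0, 0, 0, -1, 2, -1],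
  [0, 0, 0, 0, 0, 0, -1, 2]]

theorem rowsOf6 {A : Fin 6 → Fin 6 → ℤ} (h : IsCartan CoxeterMatrix.E₆ A) : RowsOf 6 A rows6 := by
  refine ⟨fun i k => ?_, by decide⟩
  rw [cartan_sl h (by decide)]
  revert i k
  decide

theorem rowsOf7 {A : Fin 7 → Fin 7 → ℤ} (h : IsCartan CoxeterMatrix.E₇ A) : RowsOf 7 A rows7 := by
  refine ⟨fun i k => ?_, by decide⟩
  rw [cartan_sl h (by decide)]
  revert i k
  decide

theorem rowsOf8 {A : Fin 8 → Fin 8 → ℤ} (h : IsCartan CoxeterMatrix.E₈ A) : RowsOf 8 A rows8 := by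
  refine ⟨fun i k => ?_, by decide⟩
  rw [cartan_sl h (by decide +kernel)]
  revert i k
  decide +kernel

def w8 : List (List (Fin 8)) := [[0, 2, 3, 4, 5, 6, 1, 3, 4, 5, 2, 3, 4, 1, 3, 2], [1, 3, 4, 5, 2, 3, 4, 0, 2, 3],
  [2, 3, 4, 1, 3, 0], [3, 4, 2, 1], [4, 5, 3, 2, 1, 3], [5, 6, 4, 3, 2, 1, 3, 4], [6, 7, 5, 4, 3, 2, 1, 3, 4, 5],
  [7, 6, 5, 4, 3, 2, 1, 3, 4, 5, 6, 0, 2, 3, 4, 5, 1, 3, 4, 2, 3, 0, 2, 1, 3, 4, 5, 6]]

theorem nodeOK8 {W : Type*} [Group W] [Finite W] (cs : CoxeterSystem CoxeterMatrix.E₈ W) {A : Fin 8 → Fin 8 → ℤ}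
    (h : IsCartan CoxeterMatrix.E₈ A) (s : Fin 8) : NodeOK cs h s := by
  refine nodeOK_of_word (rowsOf8 h) (w8.getD s []) ?_
  revert s
  decide +kernel

def w7 : List (List (Fin 7)) := [[0, 2, 3, 4, 5, 6, 1, 3, 4, 5, 2, 3, 4, 1, 3, 2], [1, 3, 4, 5, 2, 3, 4, 0, 2, 3],
  [2, 3, 4, 1, 3, 0], [3, 4, 2, 1], [4, 5, 3, 2, 1, 3], [5, 6, 4, 3, 2, 1, 3, 4]]

theorem chk7 : chkMin 7 rows7 6 5 [6, 5, 4]
    [[2, 3, 4, 5, 6, 0, 2, 3, 4, 5], [3, 4, 5, 6, 1, 3, 4, 5], [3, 4, 5, 6, 2, 3, 4, 5], [4, 5, 6, 3, 4, 5], [5, 6, 4, 5]]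
    [[6, 5, 4, 3, 2, 1, 3, 4, 5], [6, 5, 4, 3, 2, 1, 3, 4, 5, 0, 2, 3], [6, 5, 4, 3, 2, 1, 3, 4, 5, 0],
      [6, 5, 4, 3, 2, 1, 3, 4, 5, 0, 2], [6, 5, 4, 3, 2, 1, 3, 4, 5, 0, 2, 3]] = true := by decide +kernel

theorem nodeOK7 {W : Type*} [Group W] [Finite W] (cs : CoxeterSystem CoxeterMatrix.E₇ W) {A : Fin 7 → Fin 7 → ℤ}
    (h : IsCartan CoxeterMatrix.E₇ A) (s : Fin 7) : NodeOK cs h s := by
  by_cases hs : s = 6
  · subst hs
    exact nodeOK_of_chkMin (rowsOf7 h) chk7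
  · refine nodeOK_of_word (rowsOf7 h) (w7.getD s []) ?_
    revert s
    decide +kernel

def w6 : List (List (Fin 6)) := [[], [1, 3, 4, 5, 2, 3, 4, 0, 2, 3], [2, 3, 4, 1, 3, 0], [3, 4, 2, 1],
  [4, 5, 3, 2, 1, 3]]

theorem chk60 : chkMin 6 rows6 0 2 [0, 2, 3]
    [[], [3, 2, 1, 3, 0, 2], [], [2, 3, 0, 2], [3, 4, 2, 3, 0, 2], [4, 5, 3, 4, 2, 3, 0, 2]]
    [[], [0, 2, 3, 4, 5, 1, 3, 4, 2, 3], [], [0, 2, 3, 4, 5, 1, 3, 4, 2], [0, 2, 3, 4, 5, 1, 3, 2],
      [0, 2, 3, 4, 1, 3, 2]] = true := by decide +kernel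

theorem chk65 : chkMin 6 rows6 5 4 [5, 4, 3]
    [[2, 3, 4, 5, 0, 2, 3, 4], [3, 4, 5, 1, 3, 4], [3, 4, 5, 2, 3, 4], [4, 5, 3, 4]]
    [[5, 4, 3, 2, 1, 3, 4], [5, 4, 3, 2, 1, 3, 4, 0, 2, 3], [5, 4, 3, 2, 1, 3, 4, 0], [5, 4, 3, 2, 1, 3, 4, 0, 2]] =
    true := by decide +kernel

theorem nodeOK6 {W : Type*} [Group W] [Finite W] (cs : CoxeterSystem CoxeterMatrix.E₆ W) {A : Fin 6 → Fin 6 → ℤ}
    (h : IsCartan CoxeterMatrix.E₆ A) (s : Fin 6) : NodeOK cs h s := by
  by_cases hs : s = 0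
  · subst hs
    exact nodeOK_of_chkMin (rowsOf6 h) chk60
  by_cases hs' : s = 5
  · subst hs'
    exact nodeOK_of_chkMin (rowsOf6 h) chk65
  · refine nodeOK_of_word (rowsOf6 h) (w6.getD s []) ?_
    revert s
    decide +kernel

/-! ### `F₄` and `G₂` -/

def rowsF (a b : ℤ) : List (List ℤ) := [[2, -1, 0, 0], [-1, 2, a, 0], [0, b, 2, -1], [0, 0, -1, 2]]

theorem rowsOfF {A : Fin 4 → Fin 4 → ℤ} (h : IsCartan CoxeterMatrix.F₄ A) :
    RowsOf 4 A (rowsF (-1) (-2)) ∨ RowsOf 4 A (rowsF (-2) (-1)) := by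
  have h01 : A 0 1 = -1 ∧ A 1 0 = -1 := by
    rcases h.rel 0 1 (by decide) with ⟨hm, -⟩ | ⟨-, h1, h2⟩ | ⟨hm, -⟩ | ⟨hm, -⟩
    · exact absurd hm (by decide)
    · exact ⟨h1, h2⟩
    · exact absurd hm (by decide)
    · exact absurd hm (by decide)
  have h23 : A 2 3 = -1 ∧ A 3 2 = -1 := by
    rcases h.rel 2 3 (by decide) with ⟨hm, -⟩ | ⟨-, h1, h2⟩ | ⟨hm, -⟩ | ⟨hm, -⟩
    · exact absurd hm (by decide)
    · exact ⟨h1, h2⟩
    · exact absurd hm (by decide)
    · exact absurd hm (by decide)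
  have h02 : A 0 2 = 0 ∧ A 2 0 = 0 := by
    rcases h.rel 0 2 (by decide) with ⟨-, h1, h2⟩ | ⟨hm, -⟩ | ⟨hm, -⟩ | ⟨hm, -⟩
    · exact ⟨h1, h2⟩
    · exact absurd hm (by decide)
    · exact absurd hm (by decide)
    · exact absurd hm (by decide)
  have h03 : A 0 3 = 0 ∧ A 3 0 = 0 := by
    rcases h.rel 0 3 (by decide) with ⟨-, h1, h2⟩ | ⟨hm, -⟩ | ⟨hm, -⟩ | ⟨hm, -⟩
    · exact ⟨h1, h2⟩
    · exact absurd hm (by decide)
    · exact absurd hm (by decide)
    · exact absurd hm (by decide)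
  have h13 : A 1 3 = 0 ∧ A 3 1 = 0 := by
    rcases h.rel 1 3 (by decide) with ⟨-, h1, h2⟩ | ⟨hm, -⟩ | ⟨hm, -⟩ | ⟨hm, -⟩
    · exact ⟨h1, h2⟩
    · exact absurd hm (by decide)
    · exact absurd hm (by decide)
    · exact absurd hm (by decide)
  have hd := h.diag
  rcases h.rel 1 2 (by decide) with ⟨hm, -⟩ | ⟨hm, -⟩ | ⟨-, ⟨h1, h2⟩ | ⟨h1, h2⟩⟩ | ⟨hm, -⟩
  · exact absurd hm (by decide)
  · exact absurd hm (by decide)
  · left
    refine ⟨fun i k => ?_, by decide⟩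
    fin_cases i <;> fin_cases k <;>
      simp [rowsF, hd, h01, h23, h02, h03, h13, h1, h2]
  · right
    refine ⟨fun i k => ?_, by decide⟩
    fin_cases i <;> fin_cases k <;>
      simp [rowsF, hd, h01, h23, h02, h03, h13, h1, h2]
  · exact absurd hm (by decide)

def wF : List (List (Fin 4)) := [[0, 1, 2, 3, 1, 2, 1], [1, 2, 0], [2, 3, 1], [3, 2, 1, 2, 0, 1, 2]]

theorem nodeOKF {W : Type*} [Group W] [Finite W] (cs : CoxeterSystem CoxeterMatrix.F₄ W) {A : Fin 4 → Fin 4 → ℤ}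
    (h : IsCartan CoxeterMatrix.F₄ A) (s : Fin 4) : NodeOK cs h s := by
  rcases rowsOfF h with hr | hr
  · refine nodeOK_of_word hr (wF.getD s []) ?_
    revert s
    decide +kernel
  · refine nodeOK_of_word hr (wF.getD s []) ?_
    revert s
    decide +kernel

def rowsG (a b : ℤ) : List (List ℤ) := [[2, a], [b, 2]]

theorem rowsOfG {A : Fin 2 → Fin 2 → ℤ} (h : IsCartan CoxeterMatrix.G₂ A) :
    RowsOf 2 A (rowsG (-1) (-3)) ∨ RowsOf 2 A (rowsG (-3) (-1)) := by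
  have hd := h.diag
  rcases h.rel 0 1 (by decide) with ⟨hm, -⟩ | ⟨hm, -⟩ | ⟨hm, -⟩ | ⟨-, ⟨h1, h2⟩ | ⟨h1, h2⟩⟩
  · exact absurd hm (by decide)
  · exact absurd hm (by decide)
  · exact absurd hm (by decide)
  · left
    refine ⟨fun i k => ?_, by decide⟩
    fin_cases i <;> fin_cases k <;> simp [rowsG, hd, h1, h2]
  · right
    refine ⟨fun i k => ?_, by decide⟩
    fin_cases i <;> fin_cases k <;> simp [rowsG, hd, h1, h2]

def wG : List (List (Fin 2)) := [[0, 1], [1, 0]]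

theorem nodeOKG {W : Type*} [Group W] [Finite W] (cs : CoxeterSystem CoxeterMatrix.G₂ W) {A : Fin 2 → Fin 2 → ℤ}
    (h : IsCartan CoxeterMatrix.G₂ A) (s : Fin 2) : NodeOK cs h s := by
  rcases rowsOfG h with hr | hr
  · refine nodeOK_of_word hr (wG.getD s []) ?_
    revert s
    decide +kernel
  · refine nodeOK_of_word hr (wG.getD s []) ?_
    revert s
    decide +kernel

end Cfsg.Agent.H307.NodeTypes
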